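import Mathlib

/-!
# A lowering operator for a nilpotent operator

For a nilpotent `n` there is `F` with `[n, [n, F]] = -2n`, and one supported on a single cyclic
block with nonzero trace pairing against `n`.
-/

set_option autoImplicit false
set_option linter.unusedSectionVars false

namespace Cfsg.Lib.Blocks.HalfDegree

open Module

universe u v

variable {k : Type u} [Field k] {U : Type v} [AddCommGroup U] [Module k U]

/-- The commutator with `n`. -/
noncomputable def ad (n : Module.End k U) : Module.End k (Module.End k U) :=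
  LinearMap.mulLeft k n - LinearMap.mulRight k n

lemma ad_apply (n X : Module.End k U) : ad n X = n * X - X * n := rfl

lemma ad_mul_right {n e : Module.End k U} (h : Commute n e) (X : Module.End k U) :
    ad n (X * e) = ad n X * e := by
  simp only [ad_apply, sub_mul, mul_assoc, h.eq]

lemma ad_eq_zero {n X : Module.End k U} (h : Commute n X) : ad n X = 0 :=
  sub_eq_zero.2 h.eq

/-- A rank one operator attached to a vector and a functional. -/
noncomputable def em (n : Module.End k U) (u : U) (φ : Module.Dual k U) (a b : ℕ) :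
    Module.End k U :=
  (φ.comp (n ^ a)).smulRight ((n ^ b) u)

lemma em_apply (n : Module.End k U) (u : U) (φ : Module.Dual k U) (a b : ℕ) (w : U) :
    em n u φ a b w = φ ((n ^ a) w) • (n ^ b) u := rfl

lemma mul_em (n : Module.End k U) (u : U) (φ : Module.Dual k U) (a b : ℕ) :
    n * em n u φ a b = em n u φ a (b + 1) :=
  LinearMap.ext fun w => by
    simp [em_apply, pow_succ', Module.End.mul_apply]

lemma em_mul (n : Module.End k U) (u : U) (φ : Module.Dual k U) (a b : ℕ) :
    em n u φ a b * n = em n u φ (a + 1) b :=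
  LinearMap.ext fun w => by
    simp [em_apply, pow_succ, Module.End.mul_apply]

lemma trace_mul_em [FiniteDimensional k U] (S : Module.End k U) (n : Module.End k U) (u : U)
    (φ : Module.Dual k U) (a b : ℕ) :
    LinearMap.trace k U (S * em n u φ a b) = φ ((n ^ a) (S ((n ^ b) u))) := by
  have h : S * em n u φ a b = (φ.comp (n ^ a)).smulRight (S ((n ^ b) u)) :=
    LinearMap.ext fun w => by simp [em_apply, Module.End.mul_apply]
  rw [h, LinearMap.trace_smulRight]
  rfl

lemma em_shift (n : Module.End k U) (u : U) (φ : Module.Dual k U) (d : ℕ) (hd : n ^ d = 0)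
    (c : ℕ → k) :
    ∑ i ∈ Finset.range d, c (i + 1) • em n u φ (d - 1 - i) (i + 1) =
      ∑ i ∈ Finset.range d, c i • em n u φ (d - i) i := by
  have h1 := Finset.sum_range_succ' (fun i => c i • em n u φ (d - i) i) d
  rw [Finset.sum_range_succ] at h1
  have e0 : c 0 • em n u φ (d - 0) 0 = 0 := by
    refine LinearMap.ext fun w => ?_
    simp [em_apply, hd]
  have ed : c d • em n u φ (d - d) d = 0 := by
    refine LinearMap.ext fun w => ?_
    simp [em_apply, hd]
  rw [e0, ed, add_zero, add_zero] at h1
  rw [h1]
  refine Finset.sum_congr rfl fun i _ => ?_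
  rw [show d - 1 - i = d - (i + 1) by omega]

/-- Six times `∑ i (d - i)`. -/
lemma six_mul_sum {R : Type*} [CommRing R] (x : R) (N : ℕ) :
    6 * ∑ i ∈ Finset.range N, (i : R) * (x - i) =
      3 * x * N * (N - 1) - N * (N - 1) * (2 * N - 1) := by
  induction N with
  | zero => simp
  | succ N ih =>
    rw [Finset.sum_range_succ, mul_add, ih]
    push_cast
    ring

/-- The data of a cyclic block. -/
lemma exists_block [FiniteDimensional k U] (n : Module.End k U) (hn : IsNilpotent n) (hn0 : n ≠ 0) :
    ∃ (d : ℕ) (u : U) (φ : Module.Dual k U), 2 ≤ d ∧ d ≤ finrank k U ∧ n ^ d = 0 ∧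
      ∀ j, φ ((n ^ j) u) = if j = d - 1 then 1 else 0 := by
  obtain ⟨d, hd, hmin⟩ : ∃ d, n ^ d = 0 ∧ ∀ j < d, n ^ j ≠ 0 := by
    classical
    exact ⟨Nat.find hn, Nat.find_spec hn, fun j hj => Nat.find_min hn hj⟩
  have hd2 : 2 ≤ d := by
    by_contra h
    have : d = 0 ∨ d = 1 := by omega
    rcases this with rfl | rfl
    · rw [pow_zero] at hd
      exact hn0 (by rw [← mul_one n, hd, mul_zero])
    · exact hn0 (by simpa using hd)
  obtain ⟨u, hu⟩ : ∃ u, (n ^ (d - 1)) u ≠ 0 := by
    by_contra h
    push Not at h
    exact hmin (d - 1) (by omega) (LinearMap.ext h)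
  have hbig : ∀ j, d ≤ j → (n ^ j) u = 0 := fun j hj => by
    rw [pow_eq_zero_of_le hj hd, LinearMap.zero_apply]
  have hli : LinearIndependent k fun i : Fin d => (n ^ (i : ℕ)) u := by
    rw [Fintype.linearIndependent_iff]
    intro c hc
    suffices ∀ j : ℕ, ∀ h : j < d, c ⟨j, h⟩ = 0 from fun i => this i i.2
    intro j
    induction j using Nat.strong_induction_on with
    | _ j ih =>
      intro hj
      have h1 := congrArg (n ^ (d - 1 - j)) hc
      rw [map_sum, map_zero, Finset.sum_eq_single ⟨j, hj⟩] at h1
      · rw [map_smul, ← Module.End.mul_apply, ← pow_add, show d - 1 - j + j = d - 1 by omega] at h1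
        exact (smul_eq_zero.1 h1).resolve_right hu
      · intro i _ hi
        have hne : (i : ℕ) ≠ j := fun e => hi (Fin.ext e)
        rcases Nat.lt_or_gt_of_ne hne with hlt | hgt
        · rw [show c i = 0 from ih i hlt i.2, zero_smul, map_zero]
        · rw [map_smul, ← Module.End.mul_apply, ← pow_add, hbig _ (by omega), smul_zero]
      · simp
  obtain ⟨φ, hφ⟩ := ((Finsupp.lapply ⟨d - 1, by omega⟩).comp hli.repr).exists_extend
  refine ⟨d, u, φ, hd2, ?_, hd, fun j => ?_⟩
  · have h := hli.fintype_card_le_finrank
    rwa [Fintype.card_fin] at h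
  · by_cases hj : j < d
    · have h1 := LinearMap.congr_fun hφ
        ⟨(n ^ j) u, Submodule.subset_span ⟨⟨j, hj⟩, rfl⟩⟩
      simp only [LinearMap.comp_apply, Submodule.subtype_apply, Finsupp.lapply_apply] at h1
      rw [hli.repr_eq_single ⟨j, hj⟩ _ rfl, Finsupp.single_apply] at h1
      simpa [Fin.ext_iff] using h1
    · rw [hbig j (not_lt.1 hj), map_zero, if_neg (by omega)]

/-- The lowering operator of a cyclic block. -/
lemma exists_block_low [FiniteDimensional k U] (n : Module.End k U) (hn : IsNilpotent n)
    (hn0 : n ≠ 0) :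
    ∃ e F : Module.End k U, ∃ d : ℕ, 2 ≤ d ∧ d ≤ finrank k U ∧ e * e = e ∧ e ≠ 0 ∧ Commute n e ∧
      ad n (ad n F) = (-2 : k) • (n * e) ∧
      6 * LinearMap.trace k U (n * F) = (d : k) * (d - 1) * (d + 1) ∧
      ∀ T, Commute n T → LinearMap.trace k U (n * n * T * F) = 0 := by
  obtain ⟨d, u, φ, hd2, hdle, hd, hφ⟩ := exists_block n hn hn0
  set e := ∑ i ∈ Finset.range d, em n u φ (d - 1 - i) i with he
  set a : ℕ → k := fun i => (i : k) * ((d : k) - i) with ha
  set F := ∑ i ∈ Finset.range d, a i • em n u φ (d - 1 - i) (i - 1) with hF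
  have hfix : ∀ j < d, e ((n ^ j) u) = (n ^ j) u := by
    intro j hj
    rw [he, LinearMap.sum_apply, Finset.sum_eq_single j]
    · rw [em_apply, ← Module.End.mul_apply (n ^ _), ← pow_add, hφ, if_pos (by omega), one_smul]
    · intro i hi hij
      rw [em_apply, ← Module.End.mul_apply (n ^ _), ← pow_add, hφ,
        if_neg (by have := Finset.mem_range.1 hi; omega), zero_smul]
    · intro h
      exact absurd (Finset.mem_range.2 hj) h
  have hee : e * e = e := by
    refine LinearMap.ext fun w => ?_
    rw [Module.End.mul_apply]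
    conv_lhs => arg 2; rw [he, LinearMap.sum_apply]
    rw [map_sum]
    conv_rhs => rw [he, LinearMap.sum_apply]
    refine Finset.sum_congr rfl fun i hi => ?_
    rw [em_apply, map_smul, hfix i (Finset.mem_range.1 hi)]
  have he0 : e ≠ 0 := fun h => by
    have h1 := hfix 0 (by omega)
    rw [h, LinearMap.zero_apply, pow_zero, Module.End.one_apply] at h1
    have h2 := hφ (d - 1)
    rw [← h1, map_zero, map_zero, if_pos rfl] at h2
    exact zero_ne_one h2
  have hne : n * e = e * n := by
    rw [he, Finset.mul_sum, Finset.sum_mul]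
    have h := em_shift n u φ d hd fun _ => (1 : k)
    simp only [one_smul] at h
    rw [Finset.sum_congr rfl fun i _ => mul_em n u φ (d - 1 - i) i, h]
    refine Finset.sum_congr rfl fun i hi => ?_
    rw [em_mul, show d - 1 - i + 1 = d - i by have := Finset.mem_range.1 hi; omega]
  have hnF : n * F = ∑ i ∈ Finset.range d, a i • em n u φ (d - 1 - i) i := by
    rw [hF, Finset.mul_sum]
    refine Finset.sum_congr rfl fun i _ => ?_
    rcases i with - | i
    · simp [ha]
    · rw [mul_smul_comm, mul_em, show i + 1 - 1 + 1 = i + 1 by omega]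
  have hFn : F * n = ∑ i ∈ Finset.range d, a (i + 1) • em n u φ (d - 1 - i) i := by
    have h0 : a 0 = 0 := by simp [ha]
    have hd0 : a d = 0 := by simp [ha]
    have h1 := Finset.sum_range_succ' (fun i => a i • em n u φ (d - i) (i - 1)) d
    rw [Finset.sum_range_succ, h0, hd0, zero_smul, zero_smul, add_zero, add_zero] at h1
    rw [hF, Finset.sum_mul]
    trans ∑ i ∈ Finset.range d, a i • em n u φ (d - i) (i - 1)
    · refine Finset.sum_congr rfl fun i hi => ?_
      rw [smul_mul_assoc, em_mul,
        show d - 1 - i + 1 = d - i by have := Finset.mem_range.1 hi; omega]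
    · rw [h1]
      refine Finset.sum_congr rfl fun i _ => ?_
      rw [show d - (i + 1) = d - 1 - i by omega, Nat.add_sub_cancel]
  have hG : ad n F = ∑ i ∈ Finset.range d, (2 * (i : k) + 1 - d) • em n u φ (d - 1 - i) i := by
    rw [ad_apply, hnF, hFn, ← Finset.sum_sub_distrib]
    refine Finset.sum_congr rfl fun i _ => ?_
    rw [← sub_smul]
    congr 1
    simp only [ha]
    push_cast
    ring
  have hGG : ad n (ad n F) = (-2 : k) • (n * e) := by
    rw [ad_apply, hG]
    have h1 := em_shift n u φ d hd fun i => (2 * (i : k) - 1 - d)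
    have h2 : n * ∑ i ∈ Finset.range d, (2 * (i : k) + 1 - d) • em n u φ (d - 1 - i) i =
        ∑ i ∈ Finset.range d, (2 * (i : k) - 1 - d) • em n u φ (d - i) i := by
      rw [Finset.mul_sum, ← h1]
      refine Finset.sum_congr rfl fun i _ => ?_
      rw [mul_smul_comm, mul_em]
      congr 1
      push_cast
      ring
    have h3 : n * e = ∑ i ∈ Finset.range d, em n u φ (d - i) i := by
      rw [hne, he, Finset.sum_mul]
      refine Finset.sum_congr rfl fun i hi => ?_
      rw [em_mul, show d - 1 - i + 1 = d - i by have := Finset.mem_range.1 hi; omega]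
    rw [h2, h3, Finset.smul_sum, Finset.sum_mul, ← Finset.sum_sub_distrib]
    refine Finset.sum_congr rfl fun i hi => ?_
    rw [smul_mul_assoc, em_mul, show d - 1 - i + 1 = d - i by have := Finset.mem_range.1 hi; omega,
      ← sub_smul]
    congr 1
    ring
  refine ⟨e, F, d, hd2, hdle, hee, he0, hne, hGG, ?_, fun T hT => ?_⟩
  · rw [hnF, map_sum]
    have h1 : ∀ i ∈ Finset.range d,
        LinearMap.trace k U (a i • em n u φ (d - 1 - i) i) = (i : k) * ((d : k) - i) := by
      intro i hi
      rw [map_smul, ← one_mul (em n u φ (d - 1 - i) i), trace_mul_em, Module.End.one_apply,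
        ← Module.End.mul_apply, ← pow_add, hφ, if_pos (by have := Finset.mem_range.1 hi; omega),
        smul_eq_mul, mul_one]
    rw [Finset.sum_congr rfl h1, six_mul_sum]
    ring
  · rw [hF, Finset.mul_sum, map_sum]
    refine Finset.sum_eq_zero fun i hi => ?_
    rw [mul_smul_comm, map_smul, trace_mul_em]
    rcases i with - | i
    · simp [ha]
    · have hcomm : n ^ (d - 1 - (i + 1)) * (n * n * T) * n ^ i = T * n ^ d := by
        rw [← (hT.pow_left d).eq, ← pow_two, mul_assoc, mul_assoc, ← (hT.pow_left i).eq,
          ← mul_assoc, ← mul_assoc, ← pow_add, ← pow_add]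
        congr 2
        have := Finset.mem_range.1 hi
        omega
      rw [Nat.add_sub_cancel, ← Module.End.mul_apply, ← Module.End.mul_apply, hcomm, hd,
        mul_zero, LinearMap.zero_apply, map_zero, smul_zero]

/-- A lowering operator for every nilpotent operator. -/
theorem exists_low [FiniteDimensional k U] (n : Module.End k U) (hn : IsNilpotent n) :
    ∃ F : Module.End k U, ad n (ad n F) = (-2 : k) • n := by
  suffices ∀ (N : ℕ) (W : Type v) [AddCommGroup W] [Module k W] [FiniteDimensional k W]
      (n : Module.End k W), IsNilpotent n → finrank k W ≤ N →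
      ∃ F : Module.End k W, ad n (ad n F) = (-2 : k) • n from this _ U n hn le_rfl
  intro N
  induction N with
  | zero =>
    intro W _ _ _ n _ h
    have : Subsingleton W := Module.finrank_zero_iff.1 (Nat.le_zero.1 h)
    exact ⟨0, LinearMap.ext fun w => Subsingleton.elim _ _⟩
  | succ N ih =>
    intro W _ _ _ n hn hN
    rcases eq_or_ne n 0 with rfl | hn0
    · exact ⟨0, by simp⟩
    obtain ⟨e, F₁, d, -, -, hee, he0, hne, hF₁, -, -⟩ := exists_block_low n hn hn0
    set K := LinearMap.ker e with hK
    have hst : ∀ w ∈ K, n w ∈ K := fun w hw => by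
      rw [hK, LinearMap.mem_ker, ← Module.End.mul_apply, ← hne.eq, Module.End.mul_apply,
        LinearMap.mem_ker.1 hw, map_zero]
    set nK : Module.End k K := n.restrict hst with hnK
    have hnKn : IsNilpotent nK := by
      obtain ⟨r, hr⟩ := hn
      refine ⟨r, LinearMap.ext fun w => Subtype.ext ?_⟩
      rw [hnK, Module.End.pow_restrict, LinearMap.restrict_coe_apply, hr]
      rfl
    have hlt : finrank k K < finrank k W := Submodule.finrank_lt fun h => he0 (LinearMap.ker_eq_top.1 h)
    obtain ⟨F₂, hF₂⟩ := ih K nK hnKn (by omega)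
    let pr : W →ₗ[k] K := (1 - e).codRestrict K fun w => by
      rw [hK, LinearMap.mem_ker, LinearMap.sub_apply, Module.End.one_apply, map_sub,
        ← Module.End.mul_apply, hee, sub_self]
    let up : Module.End k K → Module.End k W := fun T => K.subtype ∘ₗ T ∘ₗ pr
    have hup : ∀ T, ad n (up T) = up (ad nK T) := by
      intro T
      refine LinearMap.ext fun w => ?_
      have h1 : pr (n w) = nK (pr w) := Subtype.ext (by
        show n w - e (n w) = n (w - e w)
        rw [map_sub, ← Module.End.mul_apply, ← hne.eq, Module.End.mul_apply])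
      simp only [up, ad_apply, LinearMap.sub_apply, Module.End.mul_apply, LinearMap.comp_apply,
        h1, Submodule.subtype_apply, AddSubgroupClass.coe_sub]
      rfl
    refine ⟨F₁ * e + up F₂, ?_⟩
    rw [map_add, map_add, ad_mul_right hne, ad_mul_right hne, hF₁, hup, hup, hF₂]
    refine LinearMap.ext fun w => ?_
    simp only [up, LinearMap.add_apply, Module.End.mul_apply, LinearMap.smul_apply,
      LinearMap.comp_apply, Submodule.subtype_apply, SetLike.val_smul]
    show (-2 : k) • n (e (e w)) + (-2 : k) • n (w - e w) = _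
    rw [← Module.End.mul_apply e, hee, ← smul_add, ← map_add, add_sub_cancel]

end Cfsg.Lib.Blocks.HalfDegree
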