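import Mathlib
import Cfsg.Agent.Blocks.SmallDegCentral
import Cfsg.Agent.Blocks.HalfDegree.SlPair

/-!
# An eigenvector generating a three dimensional block of the adjoint module
-/

set_option autoImplicit false
set_option linter.unusedSectionVars false

namespace Cfsg.Lib.Blocks.HalfDegree

open Module
open scoped Classical

universe u v w

section Ring

variable {R : Type u} [Ring R]

/-- A truncated binomial expansion. -/
lemma exists_one_add_pow (n : R) (a : ℕ) :
    ∃ T : R, Commute n T ∧ (1 + n) ^ a = 1 + a • n + n * n * T := by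
  induction a with
  | zero => exact ⟨0, Commute.zero_right n, by simp⟩
  | succ a ih =>
    obtain ⟨T, hT, e⟩ := ih
    refine ⟨a • 1 + T + T * n, ((Commute.one_right n).smul_right a |>.add_right hT).add_right
      (hT.mul_right (Commute.refl n)), ?_⟩
    rw [pow_succ, e, succ_nsmul]
    simp only [mul_add, add_mul, mul_one, one_mul, mul_smul_comm, smul_mul_assoc, mul_assoc]
    abel

lemma exists_pow_one_add (n b : R) (hb : ∃ S, Commute n S ∧ b = 1 + n * S) (a : ℕ) :
    ∃ S, Commute n S ∧ b ^ a = 1 + n * S := by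
  induction a with
  | zero => exact ⟨0, Commute.zero_right n, by simp⟩
  | succ a ih =>
    obtain ⟨S, hS, rfl⟩ := hb
    obtain ⟨S', hS', e⟩ := ih
    refine ⟨S + S' + S' * (n * S), (hS.add_right hS').add_right
      (hS'.mul_right ((Commute.refl n).mul_right hS)), ?_⟩
    rw [pow_succ, e]
    simp only [mul_add, add_mul, mul_one, one_mul, mul_assoc]
    abel

end Ring

variable {G : Type u} [Group G] [Fintype G] {p : ℕ} [Fact p.Prime] {k : Type v} [Field k]
  [CharP k p] {U : Type w} [AddCommGroup U] [Module k U] [FiniteDimensional k U]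

variable (C : Cyc G p) (ρ : G →* Module.End k U)

/-- The action of `y` minus one on the adjoint module. -/
noncomputable def adY : Module.End k (Module.End k U) := endConj ρ C.y - 1

/-- The weight of an element of the complement. -/
noncomputable def wt : C.H →* k :=
  (ZMod.castHom (dvd_refl p) k).toMonoidHom.comp ((Units.coeHom (ZMod p)).comp C.act)

lemma wt_eq (h : C.H) : (wt C : C.H →* k) h = ((C.act h : ZMod p).val : k) := by
  show ZMod.castHom (dvd_refl p) k (C.act h : ZMod p) = _
  rw [ZMod.castHom_apply, ZMod.natCast_val]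

lemma wt_ne_zero (h : C.H) : (wt C : C.H →* k) h ≠ 0 := fun e => by
  have h1 := congrArg (· * (wt C : C.H →* k) h⁻¹) e
  simp only [← map_mul, mul_inv_cancel, map_one, zero_mul] at h1
  exact one_ne_zero h1

lemma wt_inv (h : C.H) : (wt C : C.H →* k) h⁻¹ = ((wt C : C.H →* k) h)⁻¹ :=
  eq_inv_of_mul_eq_one_left (by rw [← map_mul, inv_mul_cancel, map_one])

lemma endConj_mul_apply (g : G) (a b : Module.End k U) :
    endConj ρ g (a * b) = endConj ρ g a * endConj ρ g b := by
  simp only [endConj_apply, mul_assoc]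
  rw [← mul_assoc (ρ g⁻¹) (ρ g), ← map_mul, inv_mul_cancel, map_one, one_mul]

lemma endConj_inv_apply (g : G) (a : Module.End k U) : endConj ρ g⁻¹ (endConj ρ g a) = a := by
  rw [← Module.End.mul_apply, ← map_mul, inv_mul_cancel, map_one, Module.End.one_apply]

lemma trace_endConj (g : G) (a b : Module.End k U) :
    LinearMap.trace k U (endConj ρ g a * b) = LinearMap.trace k U (a * endConj ρ g⁻¹ b) := by
  rw [endConj_apply, endConj_apply, inv_inv, mul_assoc, mul_assoc, LinearMap.trace_mul_comm]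
  simp only [mul_assoc]

lemma adY_apply (φ : Module.End k U) :
    adY C ρ φ = ad (ρ C.y - 1) φ * ρ C.y⁻¹ := by
  rw [adY, LinearMap.sub_apply, Module.End.one_apply, endConj_apply, ad_apply]
  simp only [sub_mul, mul_sub, one_mul, mul_one, mul_assoc]
  rw [← map_mul, mul_inv_cancel, map_one, mul_one]
  abel

lemma commute_n_yinv : Commute (ρ C.y - 1) (ρ C.y⁻¹) := by
  refine Commute.sub_left ?_ (Commute.one_left _)
  exact (Commute.refl C.y).inv_right.map ρ

lemma adY_sq_apply (φ : Module.End k U) :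
    (adY C ρ ^ 2) φ = ad (ρ C.y - 1) (ad (ρ C.y - 1) φ) * (ρ C.y⁻¹ * ρ C.y⁻¹) := by
  rw [pow_two, Module.End.mul_apply, adY_apply, adY_apply, ad_mul_right (commute_n_yinv C ρ),
    mul_assoc]

lemma adY_cube_apply (φ : Module.End k U) :
    (adY C ρ ^ 3) φ =
      ad (ρ C.y - 1) (ad (ρ C.y - 1) (ad (ρ C.y - 1) φ)) * (ρ C.y⁻¹ * ρ C.y⁻¹ * ρ C.y⁻¹) := by
  rw [pow_succ', Module.End.mul_apply, adY_sq_apply, adY_apply,
    ad_mul_right ((commute_n_yinv C ρ).mul_right (commute_n_yinv C ρ)), mul_assoc]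

lemma endConj_y_eq : endConj ρ C.y = 1 + adY C ρ := by rw [adY, add_sub_cancel]

/-- Moving an element of the complement past the action of `y`. -/
lemma endConj_pow_adY (h : C.H) (j : ℕ) :
    endConj ρ (h : G) * adY C ρ ^ j =
      ((1 + adY C ρ) ^ (C.act h : ZMod p).val - 1) ^ j * endConj ρ (h : G) := by
  have h1 : endConj ρ (h : G) * adY C ρ =
      ((1 + adY C ρ) ^ (C.act h : ZMod p).val - 1) * endConj ρ (h : G) := by
    rw [← endConj_y_eq, adY, ← map_pow, mul_sub, sub_mul, mul_one, one_mul, ← map_mul, ← map_mul,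
      ← C.conj_y h, inv_mul_cancel_right]
  induction j with
  | zero => simp
  | succ j ih => rw [pow_succ, ← mul_assoc, ih, mul_assoc, h1, ← mul_assoc, ← pow_succ]

lemma one_add_pow_apply {z : Module.End k U} (hz : (adY C ρ ^ 3) z = 0) (a : ℕ) :
    ((1 + adY C ρ) ^ a - 1) z =
      (a : k) • adY C ρ z + (a.choose 2 : k) • (adY C ρ ^ 2) z := by
  induction a with
  | zero => simp
  | succ a ih =>
    rw [LinearMap.sub_apply, sub_eq_iff_eq_add] at ih
    rw [LinearMap.sub_apply, pow_succ', Module.End.mul_apply, ih, LinearMap.add_apply,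
      Module.End.one_apply, Module.End.one_apply, map_add, map_add, map_smul, map_smul,
      ← Module.End.mul_apply (adY C ρ) (adY C ρ), ← pow_two,
      ← Module.End.mul_apply (adY C ρ) (adY C ρ ^ 2), ← pow_succ', hz, smul_zero,
      Nat.choose_succ_succ', Nat.choose_one_right]
    push_cast
    simp only [add_smul, one_smul]
    abel

lemma cube_endConj {z : Module.End k U} (hz : (adY C ρ ^ 3) z = 0) (h : C.H) :
    (adY C ρ ^ 3) (endConj ρ (h : G) z) = 0 := by
  have h1 := LinearMap.congr_fun (endConj_pow_adY C ρ h⁻¹ 3) (endConj ρ (h : G) z)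
  rw [Module.End.mul_apply, Module.End.mul_apply, Subgroup.coe_inv, endConj_inv_apply] at h1
  obtain ⟨T, hT, e⟩ := exists_one_add_pow (adY C ρ) (C.act h⁻¹ : ZMod p).val
  have hc : Commute (adY C ρ) ((C.act h⁻¹ : ZMod p).val • 1 + adY C ρ * T) :=
    ((Commute.one_right _).smul_right _).add_right ((Commute.refl _).mul_right hT)
  have hB : (1 + adY C ρ) ^ (C.act h⁻¹ : ZMod p).val - 1 =
      adY C ρ * ((C.act h⁻¹ : ZMod p).val • 1 + adY C ρ * T) := by
    rw [e, mul_add, mul_smul_comm, mul_one, ← mul_assoc]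
    abel
  rw [hB, hc.mul_pow, (hc.pow_pow 3 3).eq, Module.End.mul_apply, hz, map_zero] at h1
  have h2 := congrArg (endConj ρ (h : G)) h1
  rwa [map_zero, ← Module.End.mul_apply, ← map_mul, mul_inv_cancel, map_one,
    Module.End.one_apply] at h2

/-- The effect of the complement on `A² z`. -/
lemma endConj_sq {z : Module.End k U} (hz : (adY C ρ ^ 3) z = 0) (h : C.H) :
    endConj ρ (h : G) ((adY C ρ ^ 2) z) =
      ((wt C : C.H →* k) h) ^ 2 • (adY C ρ ^ 2) (endConj ρ (h : G) z) := by
  have hz' := cube_endConj C ρ hz h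
  have hA : (adY C ρ ^ 3) (adY C ρ (endConj ρ (h : G) z)) = 0 := by
    rw [← Module.End.mul_apply, ← pow_succ, pow_succ', Module.End.mul_apply, hz', map_zero]
  have hA2 : (adY C ρ ^ 3) ((adY C ρ ^ 2) (endConj ρ (h : G) z)) = 0 := by
    rw [← Module.End.mul_apply, ← pow_add, show 3 + 2 = 2 + 3 from rfl, pow_add,
      Module.End.mul_apply, hz', map_zero]
  have h1 := LinearMap.congr_fun (endConj_pow_adY C ρ h 2) z
  rw [Module.End.mul_apply, Module.End.mul_apply] at h1
  rw [h1, pow_two, Module.End.mul_apply, one_add_pow_apply C ρ hz', map_add, map_smul, map_smul,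
    one_add_pow_apply C ρ hA, one_add_pow_apply C ρ hA2, wt_eq,
    ← Module.End.mul_apply (adY C ρ) (adY C ρ), ← pow_two,
    ← Module.End.mul_apply (adY C ρ ^ 2) (adY C ρ), ← pow_succ,
    ← Module.End.mul_apply (adY C ρ) (adY C ρ ^ 2), ← pow_succ',
    ← Module.End.mul_apply (adY C ρ ^ 2) (adY C ρ ^ 2), ← pow_add]
  have h4 : (adY C ρ ^ (2 + 2)) (endConj ρ (h : G) z) = 0 := by
    rw [show 2 + 2 = 1 + 3 from rfl, pow_add, Module.End.mul_apply, hz', map_zero]
  rw [show 2 + 1 = 3 from rfl, hz', h4]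
  simp only [smul_zero, add_zero, smul_smul, pow_two]

/-- The adjoint of the action of `y` minus one. -/
lemma trace_adY_eq_zero {j : ℕ} (a b : Module.End k U) (hb : (adY C ρ ^ j) b = 0) :
    LinearMap.trace k U ((adY C ρ ^ j) a * b) = 0 := by
  induction j generalizing a b with
  | zero =>
    rw [pow_zero, Module.End.one_apply] at hb
    rw [hb, mul_zero, map_zero]
  | succ j ih =>
    rw [pow_succ', Module.End.mul_apply]
    have h1 : LinearMap.trace k U (adY C ρ ((adY C ρ ^ j) a) * b) =
        -LinearMap.trace k U ((adY C ρ ^ j) a * endConj ρ C.y⁻¹ (adY C ρ b)) := by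
      rw [adY, LinearMap.sub_apply, LinearMap.sub_apply, Module.End.one_apply,
        Module.End.one_apply, map_sub (endConj ρ C.y⁻¹), endConj_inv_apply, sub_mul, mul_sub,
        map_sub, map_sub, trace_endConj]
      ring
    rw [h1, ih, neg_zero]
    have hc : Commute (adY C ρ ^ j) (endConj ρ C.y⁻¹) := by
      refine Commute.pow_left ?_ j
      exact ((Commute.refl C.y).inv_right.map (endConj ρ)).sub_left (Commute.one_left _)
    rw [← Module.End.mul_apply, hc.eq, Module.End.mul_apply, ← Module.End.mul_apply (adY C ρ ^ j),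
      ← pow_succ, hb, map_zero]

/-- `A²` is self-adjoint on the kernel of `A³`. -/
lemma trace_sq_symm {a b : Module.End k U} (hb : (adY C ρ ^ 3) b = 0) :
    LinearMap.trace k U ((adY C ρ ^ 2) a * b) = LinearMap.trace k U (a * (adY C ρ ^ 2) b) := by
  have hstep : ∀ u v : Module.End k U, LinearMap.trace k U (adY C ρ u * v) =
      -LinearMap.trace k U (u * endConj ρ C.y⁻¹ (adY C ρ v)) := by
    intro u v
    rw [adY, LinearMap.sub_apply, LinearMap.sub_apply, Module.End.one_apply,
      Module.End.one_apply, map_sub (endConj ρ C.y⁻¹), endConj_inv_apply, sub_mul, mul_sub,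
      map_sub, map_sub, trace_endConj]
    ring
  have hc : Commute (adY C ρ) (endConj ρ C.y⁻¹) :=
    ((Commute.refl C.y).inv_right.map (endConj ρ)).sub_left (Commute.one_left _)
  have hfix : endConj ρ C.y⁻¹ ((adY C ρ ^ 2) b) = (adY C ρ ^ 2) b := by
    have h1 : endConj ρ C.y ((adY C ρ ^ 2) b) = (adY C ρ ^ 2) b := by
      rw [endConj_y_eq, LinearMap.add_apply, Module.End.one_apply, ← Module.End.mul_apply,
        ← pow_succ', hb, add_zero]
    conv_lhs => rw [← h1, endConj_inv_apply]
  have h2 : adY C ρ (endConj ρ C.y⁻¹ (adY C ρ b)) = (adY C ρ ^ 2) b := by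
    rw [← Module.End.mul_apply, hc.eq, Module.End.mul_apply, ← Module.End.mul_apply (adY C ρ),
      ← pow_two, hfix]
  rw [pow_two, Module.End.mul_apply, hstep, hstep, neg_neg, h2, hfix, ← pow_two]

/-- Weighted average over the complement. -/
noncomputable def wavg (Y : Module.End k U) : Module.End k U :=
  (Nat.card C.H : k)⁻¹ • ∑ h : C.H, (wt C : C.H →* k) h • endConj ρ (h : G) Y

lemma card_H_ne_zero : (Nat.card C.H : k) ≠ 0 := by
  rw [Ne, CharP.cast_eq_zero_iff k p]; exact C.not_dvd

lemma endConj_wavg (g : C.H) (Y : Module.End k U) :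
    endConj ρ (g : G) (wavg C ρ Y) = ((wt C : C.H →* k) g)⁻¹ • wavg C ρ Y := by
  rw [wavg, smul_comm ((wt C : C.H →* k) g)⁻¹ (Nat.card C.H : k)⁻¹, map_smul, map_sum]
  congr 1
  rw [Finset.smul_sum]
  refine Fintype.sum_equiv (Equiv.mulLeft g) _ _ fun h => ?_
  rw [map_smul, Equiv.coe_mulLeft, map_mul, Subgroup.coe_mul, map_mul, Module.End.mul_apply,
    smul_smul, ← mul_assoc, inv_mul_cancel₀ (wt_ne_zero C g), one_mul]

lemma cube_wavg {Y : Module.End k U} (hY : (adY C ρ ^ 3) Y = 0) :
    (adY C ρ ^ 3) (wavg C ρ Y) = 0 := by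
  rw [wavg, map_smul, map_sum, Finset.sum_eq_zero fun h _ => by
    rw [map_smul, cube_endConj C ρ hY h, smul_zero], smul_zero]

/-- The basic eigenvector. -/
theorem exists_weight_vector (hinj : Function.Injective ρ) (hdim : 2 * finrank k U + 1 ≤ p) :
    ∃ X : Module.End k U, (adY C ρ ^ 3) X = 0 ∧
      (∀ h : C.H, endConj ρ (h : G) X = ((wt C : C.H →* k) h)⁻¹ • X) ∧
      LinearMap.trace k U ((adY C ρ ^ 2) X * X) ≠ 0 := by
  have hp := (Fact.out : p.Prime)
  have hU : Nontrivial U := by
    by_contra h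
    rw [not_nontrivial_iff_subsingleton] at h
    have : C.y = 1 := hinj (LinearMap.ext fun u => Subsingleton.elim _ _)
    exact hp.ne_one (by rw [← C.order, this, orderOf_one])
  have : CharP (Module.End k U) p :=
    charP_of_injective_ringHom (algebraMap k (Module.End k U)).injective p
  set n := ρ C.y - 1 with hn
  have hnil : IsNilpotent n := ⟨p, by
    rw [hn, sub_pow_char_of_commute _ (Commute.one_right _), ← map_pow,
      orderOf_dvd_iff_pow_eq_one.1 (dvd_of_eq C.order), map_one, one_pow, sub_self]⟩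
  have hn0 : n ≠ 0 := fun e => by
    have : C.y = 1 := hinj (by rw [map_one]; exact sub_eq_zero.1 e)
    exact hp.ne_one (by rw [← C.order, this, orderOf_one])
  obtain ⟨F, hF⟩ := exists_low n hnil
  obtain ⟨e, F₁, d, hd2, hdle, -, -, hne, hF₁, htr, hhigh⟩ := exists_block_low n hnil hn0
  have hsmall : ∀ j : ℕ, 0 < j → j < p → (j : k) ≠ 0 := fun j hj hjp h => by
    rw [CharP.cast_eq_zero_iff k p] at h
    exact absurd (Nat.le_of_dvd hj h) (by omega)
  set τ := LinearMap.trace k U (n * F₁) with hτ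
  have hτ0 : τ ≠ 0 := fun h0 => by
    rw [h0, mul_zero] at htr
    have h1 := hsmall d (by omega) (by omega)
    have h2 : (d : k) - 1 ≠ 0 := by
      have := hsmall (d - 1) (by omega) (by omega)
      rwa [Nat.cast_sub (by omega), Nat.cast_one] at this
    have h3 : (d : k) + 1 ≠ 0 := by
      have := hsmall (d + 1) (by omega) (by omega)
      rwa [Nat.cast_add, Nat.cast_one] at this
    exact mul_ne_zero (mul_ne_zero h1 h2) h3 htr.symm
  have h2k : (2 : k) ≠ 0 := by
    have := hsmall 2 (by omega) (by omega)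
    exact_mod_cast this
  have hF3 : (adY C ρ ^ 3) F = 0 := by
    rw [adY_cube_apply, ← hn, hF, map_smul, ad_eq_zero (Commute.refl n), smul_zero, zero_mul]
  have hF13 : (adY C ρ ^ 3) F₁ = 0 := by
    rw [adY_cube_apply, ← hn, hF₁, map_smul, ad_eq_zero ((Commute.refl n).mul_right hne), smul_zero,
      zero_mul]
  -- the pairing of the moved image against the block
  have hE0 : ∀ h : C.H, LinearMap.trace k U (endConj ρ (h : G) ((adY C ρ ^ 2) F) * F₁) =
      -2 * (wt C : C.H →* k) h * τ := by
    intro h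
    set a := (C.act h : ZMod p).val
    have h1 : endConj ρ (h : G) n = (1 + n) ^ a - 1 := by
      rw [hn, add_sub_cancel, ← map_pow, map_sub (endConj ρ (h : G)), endConj_apply, endConj_apply,
        mul_one, ← map_mul, ← map_mul, ← map_mul, mul_inv_cancel, map_one, C.conj_y h]
    have h2 : endConj ρ (h : G) (ρ C.y⁻¹) = ρ C.y⁻¹ ^ a := by
      rw [endConj_apply, ← map_mul, ← map_mul, ← map_pow,
        show (h : G) * C.y⁻¹ * (h : G)⁻¹ = ((h : G) * C.y * (h : G)⁻¹)⁻¹ by group, C.conj_y h,
        inv_pow]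
    have hyb : ∃ S, Commute n S ∧ ρ C.y⁻¹ = 1 + n * S := by
      refine ⟨-ρ C.y⁻¹, (commute_n_yinv C ρ).neg_right, ?_⟩
      rw [hn, sub_mul, one_mul, mul_neg, ← map_mul, mul_inv_cancel, map_one]
      abel
    obtain ⟨T, hT, eT⟩ := exists_one_add_pow n a
    obtain ⟨S, hS, eS⟩ := exists_pow_one_add n _ hyb (a + a)
    have key : endConj ρ (h : G) ((adY C ρ ^ 2) F) =
        (-2 : k) • ((a : k) • n + n * n * ((a • S) + T + T * (n * S))) := by
      rw [adY_sq_apply, ← hn, hF, smul_mul_assoc, map_smul, endConj_mul_apply, endConj_mul_apply,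
        h1, h2, ← pow_add, eT, eS, Nat.cast_smul_eq_nsmul]
      congr 1
      rw [show 1 + a • n + n * n * T - 1 = a • n + n * n * T by abel]
      simp only [mul_add, add_mul, mul_one, mul_assoc, smul_mul_assoc, mul_smul_comm]
      abel
    rw [key, smul_mul_assoc, map_smul, add_mul, map_add, smul_mul_assoc, map_smul,
      hhigh _ (((hS.smul_right a).add_right hT).add_right
        (hT.mul_right ((Commute.refl n).mul_right hS))), add_zero, wt_eq, ← hτ]
    simp only [smul_eq_mul]
    ring
  set X₁ := wavg C ρ F with hX₁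
  set X₂ := wavg C ρ F₁ with hX₂
  set E := (adY C ρ ^ 2) X₁ with hE
  have hEw : ∀ h : C.H, endConj ρ (h : G) E = (wt C : C.H →* k) h • E := by
    intro h
    rw [hE, endConj_sq C ρ (cube_wavg C ρ hF3) h, hX₁, endConj_wavg, map_smul, smul_smul, pow_two,
      mul_assoc, mul_inv_cancel₀ (wt_ne_zero C h), mul_one]
  have hcross : LinearMap.trace k U (E * X₂) = -2 * τ := by
    have h1 : LinearMap.trace k U (E * X₂) = LinearMap.trace k U (E * F₁) := by
      rw [hX₂, wavg, mul_smul_comm, map_smul, Finset.mul_sum, map_sum, smul_eq_mul,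
        Finset.sum_congr rfl fun h _ => ?_, Finset.sum_const, Finset.card_univ,
        ← Nat.card_eq_fintype_card, nsmul_eq_mul, ← mul_assoc,
        inv_mul_cancel₀ (card_H_ne_zero C), one_mul]
      rw [mul_smul_comm, map_smul, LinearMap.trace_mul_comm, trace_endConj, ← Subgroup.coe_inv,
        hEw, mul_smul_comm, map_smul, smul_eq_mul, smul_eq_mul, ← mul_assoc, wt_inv,
        mul_inv_cancel₀ (wt_ne_zero C h), one_mul, LinearMap.trace_mul_comm]
    rw [h1, hE, hX₁, wavg, map_smul, smul_mul_assoc, map_smul, map_sum, Finset.sum_mul, map_sum,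
      smul_eq_mul, Finset.sum_congr rfl (g := fun _ : C.H => -2 * τ) fun h _ => ?_,
      Finset.sum_const, Finset.card_univ, ← Nat.card_eq_fintype_card, nsmul_eq_mul, ← mul_assoc,
      inv_mul_cancel₀ (card_H_ne_zero C), one_mul]
    have h2 : (adY C ρ ^ 2) (endConj ρ (h : G) F) =
        (((wt C : C.H →* k) h) ^ 2)⁻¹ • endConj ρ (h : G) ((adY C ρ ^ 2) F) := by
      rw [endConj_sq C ρ hF3 h, smul_smul, inv_mul_cancel₀ (pow_ne_zero _ (wt_ne_zero C h)),
        one_smul]
    rw [map_smul, h2, smul_smul, smul_mul_assoc, map_smul, hE0, smul_eq_mul]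
    field_simp [wt_ne_zero C h]
  have hw1 : ∀ h : C.H, endConj ρ (h : G) X₁ = ((wt C : C.H →* k) h)⁻¹ • X₁ := fun h =>
    endConj_wavg C ρ h F
  have hw2 : ∀ h : C.H, endConj ρ (h : G) X₂ = ((wt C : C.H →* k) h)⁻¹ • X₂ := fun h =>
    endConj_wavg C ρ h F₁
  by_contra hall
  push Not at hall
  have e1 := hall X₁ (cube_wavg C ρ hF3) hw1
  have e2 := hall X₂ (cube_wavg C ρ hF13) hw2
  have e3 := hall (X₁ + X₂) (by rw [map_add, cube_wavg C ρ hF3, cube_wavg C ρ hF13, add_zero])
    fun h => by rw [map_add, hw1, hw2, smul_add]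
  have e4 : LinearMap.trace k U ((adY C ρ ^ 2) X₂ * X₁) = LinearMap.trace k U (E * X₂) := by
    rw [trace_sq_symm C ρ (cube_wavg C ρ hF3), LinearMap.trace_mul_comm]
  rw [map_add, add_mul, mul_add, mul_add, map_add, map_add, map_add, e1, e2, e4, ← hE, hcross,
    zero_add, add_zero, ← two_mul] at e3
  exact mul_ne_zero h2k (mul_ne_zero (neg_ne_zero.2 h2k) hτ0) e3

end Cfsg.Lib.Blocks.HalfDegree
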