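import Mathlib
import Cfsg.Agent.Blocks.HalfDegree.Weight

/-!
# A three dimensional orthogonal representation

The transfer of a projection onto a block of size three of the adjoint module of a small
representation has a three dimensional invariant image with a nonzero invariant form.
-/

set_option autoImplicit false
set_option linter.unusedSectionVars false

namespace Cfsg.Lib.Blocks.HalfDegree

open Module
open scoped Classical

universe u v w

variable {G : Type u} [Group G] [Fintype G] {p : ℕ} [Fact p.Prime] {k : Type v} [Field k]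
  [CharP k p] {U : Type w} [AddCommGroup U] [Module k U] [FiniteDimensional k U]

variable (C : Cyc G p) (ρ : G →* Module.End k U)

/-- The data of a three dimensional orthogonal representation with a regular unipotent. -/
structure ThreeRep (k : Type v) [Field k] (W : Type w) [AddCommGroup W] [Module k W] (y : G) where
  /-- The representation. -/
  rep : G →* Module.End k W
  /-- The invariant form. -/
  form : W →ₗ[k] W →ₗ[k] k
  symm : ∀ a b, form a b = form b a
  inv : ∀ g a b, form (rep g a) (rep g b) = form a b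
  /-- The fixed vector. -/
  e : W
  /-- The middle vector. -/
  g₀ : W
  /-- The generating vector. -/
  f : W
  y_e : rep y e = e
  y_g : rep y g₀ = g₀ + e
  y_f : rep y f = f + g₀
  form_ee : form e e = 0
  form_eg : form e g₀ = 0
  form_ef : form e f ≠ 0
  finrank_eq : finrank k W = 3

lemma adY_pow_add_self (hdim : 2 * finrank k U + 1 ≤ p) :
    adY C ρ ^ (finrank k U + finrank k U) = 0 := by
  have : Nontrivial U ∨ ¬ Nontrivial U := Classical.em _
  rcases this with hU | hU
  swap
  · rw [not_nontrivial_iff_subsingleton] at hU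
    exact LinearMap.ext fun φ => LinearMap.ext fun u => Subsingleton.elim _ _
  have : CharP (Module.End k U) p :=
    charP_of_injective_ringHom (algebraMap k (Module.End k U)).injective p
  have hyp : C.y ^ p = 1 := orderOf_dvd_iff_pow_eq_one.1 (dvd_of_eq C.order)
  have hnil : ∀ g : G, g ^ p = 1 → (ρ g - 1) ^ finrank k U = 0 := fun g hg =>
    SmallDim.pow_finrank_eq_zero ⟨p, by
      rw [sub_pow_char_of_commute _ (Commute.one_right _), ← map_pow, hg, map_one, one_pow,
        sub_self]⟩
  set n := ρ C.y - 1 with hn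
  set m' := ρ C.y⁻¹ - 1 with hm'
  have e : adY C ρ =
      LinearMap.mulLeft k n * LinearMap.mulRight k (ρ C.y⁻¹) + LinearMap.mulRight k m' := by
    refine LinearMap.ext fun φ => ?_
    simp only [adY, hn, hm', LinearMap.add_apply, LinearMap.sub_apply, Module.End.mul_apply,
      LinearMap.mulLeft_apply, LinearMap.mulRight_apply, endConj_apply, Module.End.one_apply,
      mul_assoc, sub_mul, mul_sub, mul_one, one_mul]
    abel
  rw [e]
  refine Commute.add_pow_eq_zero_of_add_le_succ_of_pow_eq_zero (m := finrank k U)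
    (n := finrank k U) ?_ ?_ ?_ (Nat.le_succ _)
  · refine Commute.mul_left (LinearMap.commute_mulLeft_right _ _) (LinearMap.ext fun φ => ?_)
    simp only [Module.End.mul_apply, LinearMap.mulRight_apply, hm', mul_sub, sub_mul, mul_assoc,
      mul_one]
  · rw [(LinearMap.commute_mulLeft_right _ _).mul_pow, LinearMap.pow_mulLeft,
      hnil _ hyp, LinearMap.mulLeft_zero_eq_zero, zero_mul]
  · rw [LinearMap.pow_mulRight, hnil _ (by rw [inv_pow, hyp, inv_one]),
      LinearMap.mulRight_zero_eq_zero]

/-- The span of `A²X, AX, X`. -/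
noncomputable def blockMap (X : Module.End k U) : (Fin 3 → k) →ₗ[k] Module.End k U :=
  Fintype.linearCombination k ![(adY C ρ ^ 2) X, adY C ρ X, X]

lemma blockMap_apply (X : Module.End k U) (v : Fin 3 → k) :
    blockMap C ρ X v = v 0 • (adY C ρ ^ 2) X + v 1 • adY C ρ X + v 2 • X := by
  rw [blockMap, Fintype.linearCombination_apply, Fin.sum_univ_three]
  rfl

/-- A map commuting with `A` and fixing the socle is injective on the block. -/
lemma injective_on_block {X : Module.End k U} (hX : (adY C ρ ^ 3) X = 0)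
    (hE : (adY C ρ ^ 2) X ≠ 0) (L : Module.End k (Module.End k U))
    (hL : Commute L (adY C ρ)) (hLE : L ((adY C ρ ^ 2) X) = (adY C ρ ^ 2) X) :
    Function.Injective (L.comp (blockMap C ρ X)) := by
  refine (injective_iff_map_eq_zero _).2 fun v hv => ?_
  set A := adY C ρ with hA
  have hA3 : A ((A ^ 2) X) = 0 := by rw [← Module.End.mul_apply, ← pow_succ', hX]
  have hA4 : (A ^ 2) ((A ^ 2) X) = 0 := by
    rw [← Module.End.mul_apply, ← pow_add, show 2 + 2 = 1 + 3 from rfl, pow_add,
      Module.End.mul_apply, hX, map_zero]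
  have hAA : A (A X) = (A ^ 2) X := by rw [← Module.End.mul_apply, ← pow_two]
  have hA21 : (A ^ 2) (A X) = 0 := by rw [← Module.End.mul_apply, ← pow_succ, hX]
  rw [LinearMap.comp_apply, blockMap_apply, ← hA] at hv
  have h2 : v 2 = 0 := by
    have h := congrArg (⇑(A ^ 2)) hv
    rw [map_zero, ← Module.End.mul_apply, ← (hL.pow_right 2).eq, Module.End.mul_apply] at h
    simp only [map_add, map_smul, hA4, hA21, smul_zero, zero_add, map_zero, hLE] at h
    exact (smul_eq_zero.1 h).resolve_right hE
  rw [h2, zero_smul, add_zero] at hv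
  have h1 : v 1 = 0 := by
    have h := congrArg A hv
    rw [map_zero, ← Module.End.mul_apply, ← hL.eq, Module.End.mul_apply] at h
    simp only [map_add, map_smul, hA3, hAA, smul_zero, zero_add, map_zero, hLE] at h
    exact (smul_eq_zero.1 h).resolve_right hE
  rw [h1, zero_smul, add_zero, map_smul, hLE] at hv
  have h0 := (smul_eq_zero.1 hv).resolve_right hE
  funext i
  fin_cases i
  exacts [h0, h1, h2]

/-- A projection onto the block, commuting with the normalizer. -/
lemma exists_block_proj {X : Module.End k U} (hX : (adY C ρ ^ 3) X = 0)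
    (hw : ∀ h : C.H, endConj ρ (h : G) X = ((wt C : C.H →* k) h)⁻¹ • X)
    (hne : LinearMap.trace k U ((adY C ρ ^ 2) X * X) ≠ 0) :
    ∃ π : Module.End k (Module.End k U),
      Commute π (adY C ρ) ∧
      (∀ g ∈ Subgroup.normalizer (Subgroup.zpowers C.y : Set G),
        endConj ρ g * π * endConj ρ g⁻¹ = π) ∧
      (∀ w, π w ∈ LinearMap.range (blockMap C ρ X)) ∧
      π ((adY C ρ ^ 2) X) = (adY C ρ ^ 2) X ∧
      π X - X ∈ LinearMap.range (adY C ρ) := by
  set A := adY C ρ with hA
  set E := (A ^ 2) X with hEdef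
  have hA3 : A E = 0 := by rw [hEdef, ← Module.End.mul_apply, ← pow_succ', hX]
  have hAA : A (A X) = E := by rw [hEdef, ← Module.End.mul_apply, ← pow_two]
  set φ : Module.End k U →ₗ[k] k :=
    (LinearMap.trace k U (E * X))⁻¹ • (LinearMap.trace k U).comp (LinearMap.mulRight k X) with hφ
  have hφE : φ E = 1 := by
    simp only [hφ, LinearMap.smul_apply, LinearMap.comp_apply, LinearMap.mulRight_apply,
      smul_eq_mul]
    exact inv_mul_cancel₀ hne
  have hφ3 : ∀ w, φ ((A ^ 3) w) = 0 := fun w => by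
    simp only [hφ, LinearMap.smul_apply, LinearMap.comp_apply, LinearMap.mulRight_apply,
      trace_adY_eq_zero C ρ w X hX, smul_zero, hA]
  set π₀ : Module.End k (Module.End k U) :=
    φ.smulRight E + (φ.comp A).smulRight (A X) + (φ.comp (A ^ 2)).smulRight X with hπ₀
  have hπ₀app : ∀ w, π₀ w = φ w • E + φ (A w) • A X + φ ((A ^ 2) w) • X := fun w => rfl
  have hπ₀c : Commute π₀ A := by
    refine LinearMap.ext fun w => ?_
    rw [Module.End.mul_apply, Module.End.mul_apply, hπ₀app, hπ₀app, map_add, map_add, map_smul,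
      map_smul, map_smul, hA3, hAA, smul_zero, zero_add, ← Module.End.mul_apply (A ^ 2) A,
      ← pow_succ, hφ3, zero_smul, add_zero, ← Module.End.mul_apply A A, ← pow_two]
  have hcy : Commute π₀ (endConj ρ C.y) := by
    rw [endConj_y_eq]
    exact (Commute.one_right _).add_right hπ₀c
  have hX' : ∀ h : C.H, endConj ρ ((h⁻¹ : C.H) : G) X = (wt C : C.H →* k) h • X := fun h => by
    rw [hw, wt_inv, inv_inv]
  have hE' : ∀ h : C.H, endConj ρ (h : G) E = (wt C : C.H →* k) h • E := fun h => by
    rw [hEdef, endConj_sq C ρ hX h, hw, map_smul, smul_smul, pow_two, mul_assoc,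
      mul_inv_cancel₀ (wt_ne_zero C h), mul_one]
  have hY' : ∀ h : C.H, ∃ c : k, endConj ρ (h : G) (A X) = A X + c • E := fun h => by
    refine ⟨((C.act h : ZMod p).val.choose 2 : k) * ((wt C : C.H →* k) h)⁻¹, ?_⟩
    have h1 := LinearMap.congr_fun (endConj_pow_adY C ρ h 1) X
    rw [pow_one, pow_one, Module.End.mul_apply, Module.End.mul_apply, hw, map_smul,
      one_add_pow_apply C ρ hX, ← wt_eq, smul_add, smul_smul, smul_smul,
      inv_mul_cancel₀ (wt_ne_zero C h), one_smul, mul_comm] at h1
    exact h1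
  have hst : ∀ (h : C.H), ∀ w ∈ LinearMap.range (blockMap C ρ X),
      endConj ρ (h : G) w ∈ LinearMap.range (blockMap C ρ X) := by
    rintro h _ ⟨v, rfl⟩
    obtain ⟨c, hc⟩ := hY' h
    refine ⟨![(wt C : C.H →* k) h * v 0 + v 1 * c, v 1, v 2 * ((wt C : C.H →* k) h)⁻¹], ?_⟩
    rw [blockMap_apply, blockMap_apply, ← hA, ← hEdef, map_add, map_add, map_smul, map_smul,
      map_smul, hE', hc, hw]
    simp only [Matrix.cons_val_zero, Matrix.cons_val_one, Matrix.cons_val_two, Matrix.head_cons,
      Matrix.tail_cons, smul_add, smul_smul, add_smul, mul_comm ((wt C : C.H →* k) h)]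
    abel
  set π : Module.End k (Module.End k U) :=
    (Nat.card C.H : k)⁻¹ • ∑ h : C.H, endConj ρ (h : G) * π₀ * endConj ρ ((h⁻¹ : C.H) : G) with hπ
  have hπapp : ∀ w, π w = (Nat.card C.H : k)⁻¹ •
      ∑ h : C.H, endConj ρ (h : G) (π₀ (endConj ρ ((h⁻¹ : C.H) : G) w)) := fun w => by
    simp [hπ, LinearMap.sum_apply, Module.End.mul_apply]
  have hπy : Commute π (endConj ρ C.y) := by
    refine Commute.smul_left (Commute.sum_left _ _ _ fun h _ => ?_) _
    set a' := (C.act h⁻¹ : ZMod p).val
    have h1 : endConj ρ ((h⁻¹ : C.H) : G) * endConj ρ C.y =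
        endConj ρ C.y ^ a' * endConj ρ ((h⁻¹ : C.H) : G) := by
      rw [← map_pow, ← map_mul, ← map_mul, ← C.conj_y h⁻¹, inv_mul_cancel_right]
    have h2 : endConj ρ (h : G) * endConj ρ C.y ^ a' = endConj ρ C.y * endConj ρ (h : G) := by
      rw [← map_pow, ← map_mul, ← map_mul, ← C.conj_y h⁻¹, Subgroup.coe_inv, inv_inv]
      congr 1
      group
    show _ * _ = _ * _
    rw [mul_assoc, h1, ← mul_assoc, mul_assoc (endConj ρ (h : G)), (hcy.pow_right a').eq,
      ← mul_assoc (endConj ρ (h : G)), h2]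
    simp only [mul_assoc]
  have hπA : Commute π A := by
    rw [hA, adY]
    exact hπy.sub_right (Commute.one_right _)
  have hπH : ∀ g : C.H, endConj ρ (g : G) * π * endConj ρ (g : G)⁻¹ = π := by
    intro g
    rw [hπ, mul_smul_comm, smul_mul_assoc, Finset.mul_sum, Finset.sum_mul]
    congr 1
    refine Fintype.sum_equiv (Equiv.mulLeft g) _ _ fun j => ?_
    simp only [Equiv.coe_mulLeft, mul_inv_rev, Subgroup.coe_mul, Subgroup.coe_inv, map_mul,
      mul_assoc]
  refine ⟨π, hπA, fun g hg => ?_, fun w => ?_, ?_, ?_⟩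
  · obtain ⟨i, h, hh, rfl⟩ := C.decomp g hg
    have h1 := hπH ⟨h, hh⟩
    simp only at h1
    rw [mul_inv_rev, map_mul, map_mul, show endConj ρ (C.y ^ i) * endConj ρ h * π *
        (endConj ρ h⁻¹ * endConj ρ (C.y ^ i)⁻¹) =
      endConj ρ (C.y ^ i) * (endConj ρ h * π * endConj ρ h⁻¹) * endConj ρ (C.y ^ i)⁻¹ by
        simp only [mul_assoc], h1, map_pow, ← (hπy.pow_right i).eq, mul_assoc, ← map_pow,
      ← map_mul, mul_inv_cancel, map_one, mul_one]
  · rw [hπapp]
    refine Submodule.smul_mem _ _ (Submodule.sum_mem _ fun h _ => hst h _ ?_)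
    refine ⟨![φ (endConj ρ ((h⁻¹ : C.H) : G) w), φ (A (endConj ρ ((h⁻¹ : C.H) : G) w)),
      φ ((A ^ 2) (endConj ρ ((h⁻¹ : C.H) : G) w))], ?_⟩
    rw [blockMap_apply, hπ₀app, ← hA, ← hEdef]
    simp
  · rw [hπapp, Finset.sum_congr rfl (g := fun _ : C.H => E) fun h _ => ?_, Finset.sum_const,
      Finset.card_univ, ← Nat.card_eq_fintype_card, ← Nat.cast_smul_eq_nsmul k, smul_smul,
      inv_mul_cancel₀ (card_H_ne_zero C), one_smul]
    rw [hE', map_smul, hπ₀app, hA3, pow_two, Module.End.mul_apply, hA3]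
    simp only [map_zero, zero_smul, add_zero, hφE, one_smul, map_smul, hE', smul_smul, wt_inv]
    rw [inv_mul_cancel₀ (wt_ne_zero C h), one_smul]
  · have hsum : X = (Nat.card C.H : k)⁻¹ • ∑ _h : C.H, X := by
      rw [Finset.sum_const, Finset.card_univ, ← Nat.card_eq_fintype_card,
        ← Nat.cast_smul_eq_nsmul k, smul_smul, inv_mul_cancel₀ (card_H_ne_zero C), one_smul]
    have key : π X - X = (Nat.card C.H : k)⁻¹ •
        ∑ h : C.H, (endConj ρ (h : G) (π₀ (endConj ρ ((h⁻¹ : C.H) : G) X)) - X) := by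
      rw [Finset.sum_sub_distrib, smul_sub, ← hsum, hπapp]
    rw [key]
    refine Submodule.smul_mem _ _ (Submodule.sum_mem _ fun h _ => ?_)
    obtain ⟨c, hc⟩ := hY' h
    rw [hX', map_smul, hπ₀app, ← hEdef, hφE, one_smul, map_smul, map_add, map_add, map_smul,
      map_smul, hE', hc, hw, smul_add, smul_add, smul_smul _ (((wt C : C.H →* k) h)⁻¹),
      mul_inv_cancel₀ (wt_ne_zero C h), one_smul, add_sub_cancel_right]
    have hEr : E ∈ LinearMap.range A := ⟨A X, hAA⟩
    refine Submodule.add_mem _ (Submodule.smul_mem _ _ (Submodule.smul_mem _ _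
      (Submodule.smul_mem _ _ hEr))) (Submodule.smul_mem _ _ (Submodule.smul_mem _ _
      (Submodule.add_mem _ ⟨X, rfl⟩ (Submodule.smul_mem _ _ hEr))))

/-- The three dimensional representation. -/
theorem exists_threeRep (P : Sylow p G) (hP : Subgroup.zpowers C.y = (P : Subgroup G))
    (hinj : Function.Injective ρ) (hdim : 2 * finrank k U + 1 ≤ p) :
    ∃ W : Submodule k (Module.End k U), Nonempty (ThreeRep k W C.y) := by
  obtain ⟨X, hX, hw, hne⟩ := exists_weight_vector C ρ hinj hdim
  obtain ⟨π, hπA, hπN, hπW, hπE, hπX⟩ := exists_block_proj C ρ hX hw hne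
  set c := endConj ρ with hc
  set A := adY C ρ with hA
  set E := (A ^ 2) X with hE
  have hE0 : E ≠ 0 := fun h => hne (by rw [h, zero_mul, map_zero])
  obtain ⟨Φ, hΦc, ψ, hψ⟩ := C.exists_transfer P hP c π hπN
  set m := finrank k U + finrank k U
  have hAm : A ^ m = 0 := adY_pow_add_self C ρ hdim
  have hmp : m ≤ p - 1 := by omega
  have hS1 : c C.y * c C.y⁻¹ = 1 := by rw [← map_mul, mul_inv_cancel, map_one]
  have hS2 : c C.y⁻¹ * c C.y = 1 := by rw [← map_mul, inv_mul_cancel, map_one]
  have hfil : Φ - π ∈ SmallDim.fil A (p - 1) := hψ ▸ SmallDim.trace_mem_fil hS1 hS2 ψ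
  have hT : ∀ j w, w ∈ LinearMap.range (A ^ j) → (Φ - π) w ∈ LinearMap.range (A ^ (j + 1)) :=
    fun j w hw => SmallDim.fil_range hAm hmp hfil j hw
  have hTker : ∀ w, A w = 0 → Φ w = π w := fun w hw => by
    have := SmallDim.fil_ker hAm hmp hfil hw
    rwa [LinearMap.sub_apply, sub_eq_zero] at this
  have hΦA : Commute Φ A := by
    rw [hA, adY]
    exact ((hΦc C.y).symm).sub_right (Commute.one_right _)
  have hmono : ∀ j w, w ∈ LinearMap.range (A ^ (j + 1)) → w ∈ LinearMap.range (A ^ j) := by
    rintro j _ ⟨w, rfl⟩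
    exact ⟨A w, by rw [← Module.End.mul_apply, ← pow_succ]⟩
  have hπR : ∀ j w, w ∈ LinearMap.range (A ^ j) → π w ∈ LinearMap.range (A ^ j) := by
    rintro j _ ⟨w, rfl⟩
    exact ⟨π w, by rw [← Module.End.mul_apply, ← (hπA.pow_right j).eq, Module.End.mul_apply]⟩
  have hΦR : ∀ j w, w ∈ LinearMap.range (A ^ j) → Φ w ∈ LinearMap.range (A ^ j) := fun j w hw => by
    rw [show Φ w = π w + (Φ - π) w by rw [LinearMap.sub_apply]; abel]
    exact Submodule.add_mem _ (hπR j w hw) (hmono j _ (hT j w hw))
  -- `Φ` and `π` agree to the next step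
  have happrox : ∀ j i w, w ∈ LinearMap.range (A ^ j) →
      (Φ ^ i) w - (π ^ i) w ∈ LinearMap.range (A ^ (j + 1)) := by
    intro j i w hw
    induction i with
    | zero => simp
    | succ i ih =>
      have hpi : (π ^ i) w ∈ LinearMap.range (A ^ j) := by
        clear ih
        induction i with
        | zero => simpa using hw
        | succ i ih => rw [pow_succ', Module.End.mul_apply]; exact hπR j _ ih
      rw [pow_succ' Φ, pow_succ' π, Module.End.mul_apply, Module.End.mul_apply,
        show Φ ((Φ ^ i) w) - π ((π ^ i) w) =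
          Φ ((Φ ^ i) w - (π ^ i) w) + (Φ - π) ((π ^ i) w) by
          rw [map_sub, LinearMap.sub_apply]; abel]
      exact Submodule.add_mem _ (hΦR _ _ ih) (hT j _ hpi)
  set W₀ := LinearMap.range (blockMap C ρ X) with hW₀
  have hπinj : ∀ w ∈ W₀, π w = 0 → w = 0 := by
    rintro _ ⟨v, rfl⟩ h
    rw [(injective_iff_map_eq_zero _).1 (injective_on_block C ρ hX hE0 π hπA hπE) v h, map_zero]
  have hsurj : ∀ j i, ∀ s ∈ W₀ ⊓ LinearMap.range (A ^ j),
      ∃ s' ∈ W₀ ⊓ LinearMap.range (A ^ j), (π ^ i) s' = s := by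
    intro j i
    set S := W₀ ⊓ LinearMap.range (A ^ j) with hS
    let πS : Module.End k S := π.restrict (p := S) (q := S) fun w hw => ⟨hπW w, hπR j w hw.2⟩
    have hinjS : Function.Injective πS := by
      refine (injective_iff_map_eq_zero _).2 fun w hw => Subtype.ext ?_
      exact hπinj w w.2.1 (congrArg Subtype.val hw)
    have hsurjS := LinearMap.injective_iff_surjective.1 hinjS
    induction i with
    | zero => exact fun s hs => ⟨s, hs, by simp⟩
    | succ i ih =>
      intro s hs
      obtain ⟨t, ht, rfl⟩ := ih s hs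
      obtain ⟨t', ht'⟩ := hsurjS ⟨t, ht⟩
      refine ⟨t', t'.2, ?_⟩
      rw [pow_succ, Module.End.mul_apply,
        show π (t' : Module.End k U) = t from congrArg Subtype.val ht']
  -- the image of a high power lies in the image of the block
  have hclaim : ∀ j w, ∃ v ∈ W₀, (Φ ^ j) w - (Φ ^ j) v ∈ LinearMap.range (A ^ j) := by
    intro j
    induction j with
    | zero => exact fun w => ⟨0, zero_mem _, ⟨(Φ ^ 0) w - (Φ ^ 0) 0, by simp⟩⟩
    | succ j ih =>
      intro w
      obtain ⟨v, hv, hr⟩ := ih w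
      set r := (Φ ^ j) w - (Φ ^ j) v with hrdef
      obtain ⟨v', hv', hv'e⟩ := hsurj j (j + 1) (π r) ⟨hπW r, hπR j r hr⟩
      refine ⟨v + v', add_mem hv hv'.1, ?_⟩
      have h1 := happrox j (j + 1) v' hv'.2
      rw [hv'e] at h1
      have h2 : (Φ ^ (j + 1)) w - (Φ ^ (j + 1)) (v + v') =
          (Φ - π) r - ((Φ ^ (j + 1)) v' - π r) := by
        rw [map_add, pow_succ' Φ, Module.End.mul_apply, Module.End.mul_apply, Module.End.mul_apply,
          hrdef, LinearMap.sub_apply, map_sub, map_sub]
        abel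
      rw [h2]
      exact Submodule.sub_mem _ (hT j r hr) h1
  set Ψ := Φ ^ m with hΨ
  have hΨA : Commute Ψ A := hΦA.pow_left m
  have hΦE : Φ E = E := by
    rw [hTker E (by rw [hE, ← Module.End.mul_apply, ← pow_succ', hX]), hπE]
  have hΨE : Ψ E = E := by
    rw [hΨ]
    clear_value m
    clear hAm hmp hΨ hclaim hfil hT hTker happrox hΨA Ψ
    induction m with
    | zero => simp
    | succ i ih => rw [pow_succ, Module.End.mul_apply, hΦE, ih]
  set L := Ψ.comp (blockMap C ρ X) with hL
  have hLinj : Function.Injective L := injective_on_block C ρ hX hE0 Ψ hΨA hΨE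
  set W := LinearMap.range L with hW
  have hmem : ∀ w, Ψ w ∈ W := fun w => by
    obtain ⟨v, ⟨v₀, rfl⟩, hr⟩ := hclaim m w
    obtain ⟨z, hz⟩ := hr
    rw [hAm, LinearMap.zero_apply, eq_comm, sub_eq_zero] at hz
    exact ⟨v₀, hz.symm⟩
  have hWst : ∀ g : G, ∀ w ∈ W, c g w ∈ W := by
    rintro g _ ⟨v, rfl⟩
    rw [hL, LinearMap.comp_apply, ← Module.End.mul_apply, ((hΦc g).pow_right m).eq,
      Module.End.mul_apply]
    exact hmem _
  let rep : G →* Module.End k W :=
    { toFun := fun g => (c g).restrict (hWst g)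
      map_one' := LinearMap.ext fun w => Subtype.ext (by
        rw [LinearMap.coe_restrict_apply, map_one]; rfl)
      map_mul' := fun a b => LinearMap.ext fun w => Subtype.ext (by
        rw [LinearMap.coe_restrict_apply, map_mul]; rfl) }
  let form : W →ₗ[k] W →ₗ[k] k :=
    ((LinearMap.mul k (Module.End k U)).compr₂ (LinearMap.trace k U)).compl₁₂ W.subtype W.subtype
  have hform : ∀ a b : W, form a b = LinearMap.trace k U ((a : Module.End k U) * b) := fun a b => rfl
  have hgX : (A ^ 2) X = A (A X) := by rw [← Module.End.mul_apply, ← pow_two]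
  have hy : ∀ z, c C.y z = z + A z := fun z => by
    rw [hc, endConj_y_eq, LinearMap.add_apply, Module.End.one_apply, hA]
  have hcomm : ∀ z, A (Ψ z) = Ψ (A z) := fun z => by
    rw [← Module.End.mul_apply, ← hΨA.eq, Module.End.mul_apply]
  have hA3 : A E = 0 := by rw [hE, ← Module.End.mul_apply, ← pow_succ', hX]
  have hker : ∀ z, LinearMap.trace k U (E * A z) = 0 := fun z => by
    rw [LinearMap.trace_mul_comm]
    simpa using trace_adY_eq_zero C ρ (j := 1) z E (by rwa [pow_one])
  have hΨX : ∃ z, Ψ X = X + A z := by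
    have h1 := happrox 0 m X ⟨X, by simp⟩
    rw [zero_add, pow_one] at h1
    have h2 : ∀ i, (π ^ i) X - X ∈ LinearMap.range A := by
      intro i
      induction i with
      | zero => simp
      | succ i ih =>
        rw [pow_succ', Module.End.mul_apply,
          show π ((π ^ i) X) - X = π ((π ^ i) X - X) + (π X - X) by rw [map_sub]; abel]
        refine Submodule.add_mem _ ?_ hπX
        have := hπR 1 _ (by rwa [pow_one])
        rwa [pow_one] at this
    obtain ⟨z, hz⟩ := Submodule.add_mem _ h1 (h2 m)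
    exact ⟨z, by rw [hz, hΨ]; abel⟩
  refine ⟨W, ⟨{
    rep := rep
    form := form
    symm := fun a b => by rw [hform, hform, LinearMap.trace_mul_comm]
    inv := fun g a b => by
      rw [hform, hform]
      show LinearMap.trace k U (c g a * c g b) = _
      rw [hc, trace_endConj, endConj_inv_apply]
    e := ⟨Ψ E, hmem E⟩
    g₀ := ⟨Ψ (A X), hmem _⟩
    f := ⟨Ψ X, hmem X⟩
    y_e := Subtype.ext (by
      show c C.y (Ψ E) = Ψ E
      rw [hy, hcomm, hA3, map_zero, add_zero])
    y_g := Subtype.ext (by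
      show c C.y (Ψ (A X)) = Ψ (A X) + Ψ E
      rw [hy, hcomm, ← hgX])
    y_f := Subtype.ext (by
      show c C.y (Ψ X) = Ψ X + Ψ (A X)
      rw [hy, hcomm])
    form_ee := by
      rw [hform]
      show LinearMap.trace k U (Ψ E * Ψ E) = 0
      rw [hΨE]
      conv_lhs => arg 2; arg 2; rw [hE, hgX]
      exact hker _
    form_eg := by
      rw [hform]
      show LinearMap.trace k U (Ψ E * Ψ (A X)) = 0
      rw [hΨE, ← hcomm]
      exact hker _
    form_ef := by
      rw [hform]
      show LinearMap.trace k U (Ψ E * Ψ X) ≠ 0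
      obtain ⟨z, hz⟩ := hΨX
      rw [hΨE, hz, mul_add, map_add, hker, add_zero]
      exact hne
    finrank_eq := by
      rw [hW, LinearMap.finrank_range_of_inj hLinj, finrank_fintype_fun_eq_card, Fintype.card_fin] }⟩⟩

end Cfsg.Lib.Blocks.HalfDegree
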