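import Mathlib
import Cfsg.Agent.Blocks.HalfDegree.Three

/-!
# Fixed isotropic lines of a three dimensional orthogonal group with a regular unipotent
-/

set_option autoImplicit false
set_option linter.unusedSectionVars false

namespace Cfsg.Lib.Blocks.HalfDegree

open Module
open scoped Classical

universe u v w

variable {G : Type u} [Group G] [Finite G] {p : ℕ} [Fact p.Prime] {k : Type v} [Field k]
  [CharP k p] {W : Type w} [AddCommGroup W] [Module k W] [FiniteDimensional k W] {y : G}

namespace ThreeRep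

variable (T : ThreeRep k W y)

lemma form_gg : T.form T.g₀ T.g₀ = -T.form T.e T.f := by
  have h := T.inv y T.g₀ T.f
  rw [T.y_g, T.y_f] at h
  simp only [map_add, LinearMap.add_apply, T.form_eg] at h
  linear_combination h

lemma form_gg_ne : T.form T.g₀ T.g₀ ≠ 0 := by
  rw [T.form_gg, neg_ne_zero]; exact T.form_ef

lemma linearIndependent : LinearIndependent k ![T.e, T.g₀, T.f] := by
  rw [Fintype.linearIndependent_iff]
  intro c hc
  rw [Fin.sum_univ_three] at hc
  simp only [Matrix.cons_val_zero, Matrix.cons_val_one, Matrix.cons_val_two, Matrix.head_cons,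
    Matrix.tail_cons] at hc
  have h1 := congrArg (T.form T.e) hc
  simp only [map_add, map_smul, map_zero, T.form_ee, T.form_eg, smul_eq_mul, mul_zero,
    zero_add] at h1
  have c2 : c 2 = 0 := (mul_eq_zero.1 h1).resolve_right T.form_ef
  have h2 := congrArg (T.form T.g₀) hc
  simp only [map_add, map_smul, map_zero, T.symm T.g₀ T.e, T.form_eg, c2, smul_eq_mul, mul_zero,
    zero_mul, zero_add, add_zero] at h2
  have c1 : c 1 = 0 := (mul_eq_zero.1 h2).resolve_right T.form_gg_ne
  have h3 := congrArg (T.form T.f) hc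
  simp only [map_add, map_smul, map_zero, c1, c2, T.symm T.f T.e, smul_eq_mul, zero_mul,
    add_zero] at h3
  have c0 : c 0 = 0 := (mul_eq_zero.1 h3).resolve_right T.form_ef
  intro i
  fin_cases i
  exacts [c0, c1, c2]

/-- The basis `e, g₀, f`. -/
noncomputable def basis : Basis (Fin 3) k W :=
  basisOfLinearIndependentOfCardEqFinrank T.linearIndependent
    (by rw [Fintype.card_fin, T.finrank_eq])

lemma basis_apply (i : Fin 3) : T.basis i = ![T.e, T.g₀, T.f] i := by
  rw [basis, coe_basisOfLinearIndependentOfCardEqFinrank]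

lemma exists_coords (w : W) : ∃ a b c : k, w = a • T.e + b • T.g₀ + c • T.f := by
  refine ⟨T.basis.repr w 0, T.basis.repr w 1, T.basis.repr w 2, ?_⟩
  have h := T.basis.sum_repr w
  rw [Fin.sum_univ_three, T.basis_apply, T.basis_apply, T.basis_apply] at h
  exact h.symm

lemma nondeg {w : W} (h : ∀ z, T.form w z = 0) : w = 0 := by
  obtain ⟨a, b, c, rfl⟩ := T.exists_coords w
  have h1 := h T.e
  have h2 := h T.g₀
  have h3 := h T.f
  simp only [map_add, map_smul, LinearMap.add_apply, LinearMap.smul_apply, T.form_ee,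
    T.symm T.g₀ T.e, T.symm T.f T.e, T.form_eg, smul_eq_mul, mul_zero, zero_add] at h1
  have hc : c = 0 := (mul_eq_zero.1 h1).resolve_right T.form_ef
  simp only [map_add, map_smul, LinearMap.add_apply, LinearMap.smul_apply, T.form_eg,
    smul_eq_mul, mul_zero, zero_add, hc, zero_mul, add_zero] at h2
  have hb : b = 0 := (mul_eq_zero.1 h2).resolve_right T.form_gg_ne
  simp only [map_add, map_smul, LinearMap.add_apply, LinearMap.smul_apply, hb, hc, smul_eq_mul,
    zero_mul, add_zero] at h3
  have ha : a = 0 := (mul_eq_zero.1 h3).resolve_right T.form_ef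
  simp [ha, hb, hc]

lemma e_ne : T.e ≠ 0 := fun h => T.form_ef (by rw [h, map_zero, LinearMap.zero_apply])

lemma fixed_y {w : W} (h : T.rep y w = w) : ∃ a : k, w = a • T.e := by
  obtain ⟨a, b, c, rfl⟩ := T.exists_coords w
  simp only [map_add, map_smul, T.y_e, T.y_g, T.y_f, smul_add] at h
  have h' : b • T.e + c • T.g₀ = 0 := by
    rw [← sub_eq_zero] at h
    rw [← h]
    abel
  have hl := Fintype.linearIndependent_iff.1 T.linearIndependent ![b, c, 0] (by
    rw [Fin.sum_univ_three]
    simpa using h')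
  exact ⟨a, by rw [show b = 0 from hl 0, show c = 0 from hl 1]; simp⟩

/-- The Gram matrix. -/
noncomputable def gram : Matrix (Fin 3) (Fin 3) k := LinearMap.toMatrix₂ T.basis T.basis T.form

lemma gram_det_ne : T.gram.det ≠ 0 := by
  have h : T.gram.det = T.form T.e T.f * T.form T.e T.f * T.form T.e T.f := by
    rw [Matrix.det_fin_three]
    simp only [gram, LinearMap.toMatrix₂_apply, T.basis_apply, Matrix.cons_val_zero,
      Matrix.cons_val_one, Matrix.cons_val_two, Matrix.head_cons, Matrix.tail_cons, T.form_ee,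
      T.form_eg, T.symm T.g₀ T.e, T.symm T.f T.e, T.form_gg]
    ring
  rw [h]
  exact mul_ne_zero (mul_ne_zero T.form_ef T.form_ef) T.form_ef

lemma gram_eq (g : G) :
    (LinearMap.toMatrix T.basis T.basis (T.rep g)).transpose * T.gram *
      LinearMap.toMatrix T.basis T.basis (T.rep g) = T.gram := by
  rw [gram, ← LinearMap.toMatrix₂_compl₁₂]
  congr 1
  exact LinearMap.ext₂ fun a b => T.inv g a b

lemma det_sq (g : G) : LinearMap.det (T.rep g) * LinearMap.det (T.rep g) = 1 := by
  have h := congrArg Matrix.det (T.gram_eq g)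
  rw [Matrix.det_mul, Matrix.det_mul, Matrix.det_transpose, LinearMap.det_toMatrix] at h
  refine mul_right_cancel₀ T.gram_det_ne ?_
  rw [one_mul]
  linear_combination h

lemma det_y : LinearMap.det (T.rep y) = 1 := by
  rw [← LinearMap.det_toMatrix T.basis, Matrix.det_fin_three]
  simp only [LinearMap.toMatrix_apply, T.basis_apply, Matrix.cons_val_zero, Matrix.cons_val_one,
    Matrix.cons_val_two, Matrix.head_cons, Matrix.tail_cons, T.y_e, T.y_g, T.y_f]
  have e0 : T.e = T.basis 0 := (T.basis_apply 0).symm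
  have e1 : T.g₀ = T.basis 1 := (T.basis_apply 1).symm
  have e2 : T.f = T.basis 2 := (T.basis_apply 2).symm
  simp [e0, e1, e2]

/-- The representation with determinant one. -/
noncomputable def normalize : ThreeRep k W y where
  rep :=
    { toFun := fun g => LinearMap.det (T.rep g) • T.rep g
      map_one' := by rw [map_one, map_one, one_smul]
      map_mul' := fun a b => by
        rw [map_mul, map_mul, smul_mul_smul_comm] }
  form := T.form
  symm := T.symm
  inv g a b := by
    show T.form (LinearMap.det (T.rep g) • T.rep g a) (LinearMap.det (T.rep g) • T.rep g b) = _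
    rw [map_smul, map_smul, LinearMap.smul_apply, T.inv, smul_smul, T.det_sq, one_smul]
  e := T.e
  g₀ := T.g₀
  f := T.f
  y_e := by
    show LinearMap.det (T.rep y) • T.rep y T.e = _
    rw [T.det_y, one_smul, T.y_e]
  y_g := by
    show LinearMap.det (T.rep y) • T.rep y T.g₀ = _
    rw [T.det_y, one_smul, T.y_g]
  y_f := by
    show LinearMap.det (T.rep y) • T.rep y T.f = _
    rw [T.det_y, one_smul, T.y_f]
  form_ee := T.form_ee
  form_eg := T.form_eg
  form_ef := T.form_ef
  finrank_eq := T.finrank_eq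

lemma normalize_det (g : G) : LinearMap.det (T.normalize.rep g) = 1 := by
  show LinearMap.det (LinearMap.det (T.rep g) • T.rep g) = 1
  rw [LinearMap.det_smul, T.finrank_eq, ← pow_succ, show 3 + 1 = 2 * 2 from rfl, pow_mul, pow_two,
    pow_two, T.det_sq, one_mul]

/-- The determinant-one hypothesis. -/
def Special : Prop := ∀ g, LinearMap.det (T.rep g) = 1

lemma rep_inv_apply (g : G) (w : W) : T.rep g⁻¹ (T.rep g w) = w := by
  rw [← Module.End.mul_apply, ← map_mul, inv_mul_cancel, map_one, Module.End.one_apply]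

lemma exists_fixed (h2 : (2 : k) ≠ 0) (hT : T.Special) (g : G) :
    LinearMap.ker (T.rep g - 1) ≠ ⊥ := by
  set M := LinearMap.toMatrix T.basis T.basis (T.rep g) with hM
  have hdet : M.det = 1 := by rw [hM, LinearMap.det_toMatrix, hT]
  have h1 : (M.transpose - 1) * T.gram * M = (-T.gram) * (M - 1) := by
    rw [sub_mul, sub_mul, one_mul, hM, T.gram_eq g, neg_mul, mul_sub, mul_one, neg_sub]
  have h2' := congrArg Matrix.det h1
  rw [Matrix.det_mul, Matrix.det_mul, Matrix.det_mul, Matrix.det_neg,
    show M.transpose - 1 = (M - 1).transpose by rw [Matrix.transpose_sub, Matrix.transpose_one],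
    Matrix.det_transpose, hdet, mul_one, Fintype.card_fin] at h2'
  have h3 : (M - 1).det = 0 := by
    have : (2 : k) * T.gram.det * (M - 1).det = 0 := by linear_combination h2'
    exact (mul_eq_zero.1 this).resolve_left (mul_ne_zero h2 T.gram_det_ne)
  intro hbot
  have h4 : IsUnit (T.rep g - 1) := (LinearMap.isUnit_iff_ker_eq_bot _).2 hbot
  have h5 := h4.map (LinearMap.det)
  rw [← LinearMap.det_toMatrix T.basis, map_sub, ← hM, LinearMap.toMatrix_one, h3] at h5
  exact not_isUnit_zero h5

lemma form_ker_range {g : G} {v r : W} (hv : v ∈ LinearMap.ker (T.rep g - 1))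
    (hr : r ∈ LinearMap.range (T.rep g - 1)) : T.form v r = 0 := by
  obtain ⟨z, rfl⟩ := hr
  rw [LinearMap.mem_ker, LinearMap.sub_apply, Module.End.one_apply, sub_eq_zero] at hv
  rw [LinearMap.sub_apply, Module.End.one_apply, map_sub, sub_eq_zero]
  conv_lhs => rw [← hv, T.inv]

lemma cast_order_ne {g : G} (hg : ¬ p ∣ orderOf g) : (orderOf g : k) ≠ 0 := by
  rwa [Ne, CharP.cast_eq_zero_iff k p]

lemma inf_ker_range {g : G} (hg : ¬ p ∣ orderOf g) {v : W}
    (hv : v ∈ LinearMap.ker (T.rep g - 1)) (hr : v ∈ LinearMap.range (T.rep g - 1)) : v = 0 := by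
  obtain ⟨z, hz⟩ := hr
  rw [LinearMap.sub_apply, Module.End.one_apply, sub_eq_iff_eq_add] at hz
  rw [LinearMap.mem_ker, LinearMap.sub_apply, Module.End.one_apply, sub_eq_zero] at hv
  have h : ∀ j : ℕ, T.rep (g ^ j) z = z + (j : k) • v := by
    intro j
    induction j with
    | zero => simp
    | succ j ih =>
      rw [pow_succ', map_mul, Module.End.mul_apply, ih, map_add, map_smul, hz, hv, Nat.cast_succ,
        add_smul, one_smul]
      abel
  have h1 := h (orderOf g)
  rw [pow_orderOf_eq_one, map_one, Module.End.one_apply, left_eq_add] at h1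
  exact (smul_eq_zero.1 h1).resolve_left (cast_order_ne hg)

lemma eq_top_sup {g : G} (hg : ¬ p ∣ orderOf g) :
    LinearMap.ker (T.rep g - 1) ⊔ LinearMap.range (T.rep g - 1) = ⊤ := by
  refine Submodule.eq_top_of_disjoint _ _ ?_ ?_
  · rw [add_comm, LinearMap.finrank_range_add_finrank_ker]
  · rw [Submodule.disjoint_def]
    exact fun v hv hr => T.inf_ker_range hg hv hr

lemma eq_zero_of_orth {g : G} (hg : ¬ p ∣ orderOf g) {w : W}
    (h1 : ∀ v ∈ LinearMap.ker (T.rep g - 1), T.form w v = 0)
    (h2 : ∀ v ∈ LinearMap.range (T.rep g - 1), T.form w v = 0) : w = 0 := by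
  refine T.nondeg fun z => ?_
  obtain ⟨a, ha, b, hb, rfl⟩ := Submodule.mem_sup.1
    (show z ∈ _ from T.eq_top_sup hg ▸ (Submodule.mem_top : z ∈ (⊤ : Submodule k W)))
  rw [map_add, h1 a ha, h2 b hb, add_zero]

/-- A `p'`-element fixing a plane is trivial. -/
lemma eq_one_of_two_le (hinj : Function.Injective T.rep) (hT : T.Special) (h2 : (2 : k) ≠ 0)
    {g : G} (hg : ¬ p ∣ orderOf g) (hK : 2 ≤ finrank k (LinearMap.ker (T.rep g - 1))) : g = 1 := by
  have hsum := LinearMap.finrank_range_add_finrank_ker (T.rep g - 1)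
  rw [T.finrank_eq] at hsum
  by_contra hne
  have hR0 : finrank k (LinearMap.range (T.rep g - 1)) ≠ 0 := fun h => by
    rw [Submodule.finrank_eq_zero, LinearMap.range_eq_bot, sub_eq_zero] at h
    exact hne (hinj (by rw [h, map_one]))
  obtain ⟨r, hr0, hspan⟩ := finrank_eq_one_iff'.1
    (show finrank k (LinearMap.range (T.rep g - 1)) = 1 by omega)
  obtain ⟨l, hl⟩ : ∃ l : k, T.rep g (r : W) = l • (r : W) := by
    obtain ⟨c, hc⟩ := hspan ⟨(T.rep g - 1) (r : W), LinearMap.mem_range_self _ _⟩
    refine ⟨c + 1, ?_⟩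
    have := congrArg Subtype.val hc
    simp only [SetLike.val_smul, LinearMap.sub_apply, Module.End.one_apply] at this
    rw [add_smul, one_smul, this, sub_add_cancel]
  have hr : (r : W) ≠ 0 := fun h => hr0 (Subtype.ext h)
  have hrr : T.form (r : W) r ≠ 0 := fun h => hr (T.eq_zero_of_orth hg
    (fun v hv => by rw [T.symm]; exact T.form_ker_range hv r.2)
    fun v hv => by
      obtain ⟨c, hc⟩ := hspan ⟨v, hv⟩
      rw [show v = c • (r : W) from (congrArg Subtype.val hc).symm, map_smul, h, smul_zero])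
  have hl2 : l * l = 1 := by
    have h := T.inv g (r : W) r
    rw [hl, map_smul, map_smul, LinearMap.smul_apply, smul_smul, smul_eq_mul] at h
    exact mul_right_cancel₀ hrr (by rw [h, one_mul])
  rcases mul_self_eq_one_iff.1 hl2 with rfl | rfl
  · refine hr (T.inf_ker_range hg ?_ r.2)
    rw [LinearMap.mem_ker, LinearMap.sub_apply, Module.End.one_apply, hl, one_smul, sub_self]
  · -- a reflection
    let bK := Module.finBasisOfFinrankEq k (LinearMap.ker (T.rep g - 1)) (n := 2) (by omega)
    have hfix : ∀ i, T.rep g (bK i : W) = (bK i : W) := fun i => by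
      have := (bK i).2
      rwa [LinearMap.mem_ker, LinearMap.sub_apply, Module.End.one_apply, sub_eq_zero] at this
    have hli : LinearIndependent k ![(bK 0 : W), (bK 1 : W), (r : W)] := by
      rw [Fintype.linearIndependent_iff]
      intro c hc
      rw [Fin.sum_univ_three] at hc
      simp only [Matrix.cons_val_zero, Matrix.cons_val_one, Matrix.cons_val_two, Matrix.head_cons,
        Matrix.tail_cons] at hc
      have hmem : c 2 • (r : W) ∈ LinearMap.ker (T.rep g - 1) := by
        rw [eq_neg_of_add_eq_zero_right hc]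
        exact neg_mem (add_mem (Submodule.smul_mem _ _ (bK 0).2) (Submodule.smul_mem _ _ (bK 1).2))
      have hc2 : c 2 = 0 := (smul_eq_zero.1 (T.inf_ker_range hg hmem
        (Submodule.smul_mem _ _ r.2))).resolve_right hr
      rw [hc2, zero_smul, add_zero] at hc
      have h := Fintype.linearIndependent_iff.1 bK.linearIndependent ![c 0, c 1] (Subtype.ext (by
        rw [Fin.sum_univ_two]
        simpa using hc))
      intro i
      fin_cases i
      exacts [h 0, h 1, hc2]
    let b := basisOfLinearIndependentOfCardEqFinrank hli (by rw [Fintype.card_fin, T.finrank_eq])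
    have hb : ∀ i, b i = ![(bK 0 : W), (bK 1 : W), (r : W)] i := fun i => by
      rw [coe_basisOfLinearIndependentOfCardEqFinrank]
    have hM : LinearMap.toMatrix b b (T.rep g) = Matrix.diagonal ![1, 1, -1] := by
      have h : ∀ j, T.rep g (b j) = (![1, 1, -1] : Fin 3 → k) j • b j := by
        intro j
        fin_cases j <;> simp [hb, hfix, hl]
      ext i j
      rw [LinearMap.toMatrix_apply, h, map_smul, Finsupp.smul_apply, b.repr_self,
        Finsupp.single_apply, Matrix.diagonal_apply]
      by_cases e : i = j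
      · subst e; simp
      · rw [if_neg e, if_neg (Ne.symm e), smul_zero]
    have hd := hT g
    rw [← LinearMap.det_toMatrix b, hM, Matrix.det_diagonal, Fin.prod_univ_three] at hd
    simp only [Matrix.cons_val_zero, Matrix.cons_val_one, Matrix.cons_val_two, Matrix.head_cons,
      Matrix.tail_cons, one_mul] at hd
    exact h2 (by linear_combination -hd)

/-- A `p'`-element fixing an isotropic vector is trivial. -/
lemma eq_one_of_isotropic (hinj : Function.Injective T.rep) (hT : T.Special) (h2 : (2 : k) ≠ 0)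
    {g : G} (hg : ¬ p ∣ orderOf g) {w : W} (hw : w ≠ 0) (hiso : T.form w w = 0)
    (hfix : T.rep g w = w) : g = 1 := by
  refine T.eq_one_of_two_le hinj hT h2 hg ?_
  by_contra hlt
  have hwK : w ∈ LinearMap.ker (T.rep g - 1) := by
    rw [LinearMap.mem_ker, LinearMap.sub_apply, Module.End.one_apply, hfix, sub_self]
  refine hw (T.eq_zero_of_orth hg (fun v hv => ?_) fun v hv => T.form_ker_range hwK hv)
  have hne : (⟨w, hwK⟩ : LinearMap.ker (T.rep g - 1)) ≠ 0 := fun h => hw (congrArg Subtype.val h)
  have : finrank k (LinearMap.ker (T.rep g - 1)) = 1 := by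
    have : 0 < finrank k (LinearMap.ker (T.rep g - 1)) := Module.finrank_pos_iff_exists_ne_zero.2
      ⟨_, hne⟩
    omega
  obtain ⟨c, hc⟩ := (finrank_eq_one_iff_of_nonzero' ⟨w, hwK⟩ hne).1 this ⟨v, hv⟩
  rw [show v = c • w from (congrArg Subtype.val hc).symm, map_smul, hiso, smul_zero]

/-- A `p'`-element other than the identity fixes exactly two isotropic lines. -/
lemma exists_two_lines [IsAlgClosed k] (hinj : Function.Injective T.rep) (hT : T.Special)
    (h2 : (2 : k) ≠ 0) {g : G} (hg : ¬ p ∣ orderOf g) (hg1 : g ≠ 1) :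
    ∃ u₁ u₂ : W, u₁ ≠ 0 ∧ u₂ ≠ 0 ∧ T.form u₁ u₁ = 0 ∧ T.form u₂ u₂ = 0 ∧
      Submodule.span k {u₁} ≠ Submodule.span k {u₂} ∧
      (∃ c : k, T.rep g u₁ = c • u₁) ∧ (∃ c : k, T.rep g u₂ = c • u₂) ∧
      ∀ w, w ≠ 0 → T.form w w = 0 → (∃ c : k, T.rep g w = c • w) →
        w ∈ Submodule.span k {u₁} ∨ w ∈ Submodule.span k {u₂} := by
  set K := LinearMap.ker (T.rep g - 1) with hK
  set R := LinearMap.range (T.rep g - 1) with hR
  have hK1 : finrank k K = 1 := by
    have h1 : ¬ 2 ≤ finrank k K := fun h => hg1 (T.eq_one_of_two_le hinj hT h2 hg h)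
    have h0 : finrank k K ≠ 0 := fun h =>
      T.exists_fixed h2 hT g (Submodule.finrank_eq_zero.1 h)
    omega
  have hsum := LinearMap.finrank_range_add_finrank_ker (T.rep g - 1)
  rw [T.finrank_eq, ← hK, ← hR, hK1] at hsum
  have hR2 : finrank k R = 2 := by omega
  have hKR : ∀ x ∈ R, ∀ v ∈ K, T.form x v = 0 := fun x hx v hv => by
    rw [T.symm]; exact T.form_ker_range hv hx
  obtain ⟨r, hrR, hrr⟩ : ∃ r ∈ R, T.form r r ≠ 0 := by
    by_contra h
    push Not at h
    have hz : ∀ a ∈ R, ∀ b ∈ R, T.form a b = 0 := fun a ha b hb => by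
      have := h _ (add_mem ha hb)
      simp only [map_add, LinearMap.add_apply, h a ha, h b hb, T.symm b a, zero_add,
        add_zero] at this
      exact (mul_eq_zero.1 (by linear_combination this : (2 : k) * T.form a b = 0)).resolve_left h2
    have : R = ⊥ := (Submodule.eq_bot_iff R).2 fun a ha =>
      T.eq_zero_of_orth hg (hKR a ha) (hz a ha)
    rw [this, finrank_bot] at hR2
    omega
  obtain ⟨z, hzR, hz⟩ : ∃ z ∈ R, z ∉ Submodule.span k {r} := by
    by_contra h
    push Not at h
    have := Submodule.finrank_mono (s := R) (t := Submodule.span k {r}) h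
    rw [finrank_span_singleton (fun e => hrr (by rw [e, map_zero]))] at this
    omega
  set s := z - (T.form r z * (T.form r r)⁻¹) • r with hs
  have hsR : s ∈ R := sub_mem hzR (Submodule.smul_mem _ _ hrR)
  have hrs : T.form r s = 0 := by
    rw [hs, map_sub, map_smul, smul_eq_mul, mul_assoc, inv_mul_cancel₀ hrr, mul_one, sub_self]
  have hs0 : s ≠ 0 := fun e => hz (by
    rw [sub_eq_zero.1 e]
    exact Submodule.smul_mem _ _ (Submodule.mem_span_singleton_self r))
  have hli : LinearIndependent k ![(⟨r, hrR⟩ : R), ⟨s, hsR⟩] := by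
    rw [LinearIndependent.pair_iff]
    intro a b hab
    have h1 : a • r + b • s = 0 := congrArg Subtype.val hab
    have h2' := congrArg (T.form r) h1
    rw [map_add, map_smul, map_smul, hrs, smul_zero, add_zero, map_zero] at h2'
    have ha : a = 0 := (smul_eq_zero.1 h2').resolve_right hrr
    rw [ha, zero_smul, zero_add] at h1
    exact ⟨ha, (smul_eq_zero.1 h1).resolve_right hs0⟩
  have hspan : ∀ x ∈ R, ∃ a b : k, x = a • r + b • s := by
    intro x hx
    have := hli.span_eq_top_of_card_eq_finrank' (by rw [Fintype.card_fin, hR2])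
    have hmem : (⟨x, hx⟩ : R) ∈ Submodule.span k (Set.range ![(⟨r, hrR⟩ : R), ⟨s, hsR⟩]) := by
      rw [this]; exact Submodule.mem_top
    rw [Matrix.range_cons, Matrix.range_cons, Matrix.range_empty, Set.union_empty,
      Set.union_singleton, Submodule.mem_span_insert] at hmem
    obtain ⟨b, q, hq, e⟩ := hmem
    obtain ⟨a, rfl⟩ := Submodule.mem_span_singleton.1 hq
    exact ⟨a, b, by rw [show x = _ from congrArg Subtype.val e]; exact add_comm _ _⟩
  have hss : T.form s s ≠ 0 := fun e => hs0 (T.eq_zero_of_orth hg (hKR s hsR) fun x hx => by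
    obtain ⟨a, b, rfl⟩ := hspan x hx
    rw [map_add, map_smul, map_smul, T.symm s r, hrs, e, smul_zero, smul_zero, add_zero])
  obtain ⟨t, ht⟩ := IsAlgClosed.exists_pow_nat_eq (-T.form r r * (T.form s s)⁻¹) two_pos
  have ht2 : t * t * T.form s s = -T.form r r := by
    rw [← pow_two, ht, mul_assoc, inv_mul_cancel₀ hss, mul_one]
  have ht0 : t ≠ 0 := fun e => hrr (by
    rw [e, mul_zero, zero_mul, eq_comm, neg_eq_zero] at ht2; exact ht2)
  have hval : ∀ a b : k, T.form (a • r + b • s) (a • r + b • s) =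
      a * a * T.form r r + b * b * T.form s s := fun a b => by
    simp only [map_add, map_smul, LinearMap.add_apply, LinearMap.smul_apply, T.symm s r, hrs,
      smul_eq_mul]
    ring
  set u₁ := r + t • s with hu₁
  set u₂ := r + (-t) • s with hu₂
  have hu1R : u₁ ∈ R := add_mem hrR (Submodule.smul_mem _ _ hsR)
  have hu2R : u₂ ∈ R := add_mem hrR (Submodule.smul_mem _ _ hsR)
  have hiso₁ : T.form u₁ u₁ = 0 := by
    have := hval 1 t; rw [one_smul] at this; rw [hu₁, this, ht2]; ring
  have hiso₂ : T.form u₂ u₂ = 0 := by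
    have := hval 1 (-t); rw [one_smul] at this; rw [hu₂, this, neg_mul_neg, ht2]; ring
  have hcross : T.form u₁ u₂ = 2 * T.form r r := by
    rw [hu₁, hu₂]
    simp only [map_add, map_smul, LinearMap.add_apply, LinearMap.smul_apply, T.symm s r, hrs,
      smul_eq_mul]
    linear_combination -ht2
  have hcne : T.form u₁ u₂ ≠ 0 := by rw [hcross]; exact mul_ne_zero h2 hrr
  have hu10 : u₁ ≠ 0 := fun e => hcne (by rw [e, map_zero, LinearMap.zero_apply])
  have hu20 : u₂ ≠ 0 := fun e => hcne (by rw [e, map_zero])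
  have hsep : ∀ a : k, u₁ ≠ a • u₂ := fun a e => by
    have := congrArg (T.form u₁) e
    rw [hiso₁, map_smul, smul_eq_mul, eq_comm, mul_eq_zero] at this
    rcases this with rfl | h
    · exact hu10 (by rw [e, zero_smul])
    · exact hcne h
  have hclass : ∀ x ∈ R, T.form x x = 0 → (∃ a : k, x = a • u₁) ∨ ∃ a : k, x = a • u₂ := by
    intro x hx hxx
    obtain ⟨a, b, rfl⟩ := hspan x hx
    rw [hval] at hxx
    have h : (b - a * t) * (b + a * t) = 0 := by
      apply mul_right_cancel₀ hss
      linear_combination hxx - a * a * ht2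
    rcases mul_eq_zero.1 h with h | h
    · exact Or.inl ⟨a, by rw [hu₁, smul_add, smul_smul, ← sub_eq_zero.1 h]⟩
    · exact Or.inr ⟨a, by
        rw [hu₂, smul_add, smul_smul, mul_neg, ← eq_neg_of_add_eq_zero_left h]⟩
  have hgR : ∀ x ∈ R, T.rep g x ∈ R := by
    rintro _ ⟨q, rfl⟩
    exact ⟨T.rep g q, by
      simp only [LinearMap.sub_apply, Module.End.one_apply, map_sub]⟩
  have himg : ∀ u ∈ R, T.form u u = 0 → T.form (T.rep g u) (T.rep g u) = 0 := fun u _ h => by
    rw [T.inv, h]
  have hinjg : Function.Injective (T.rep g) := Function.LeftInverse.injective (T.rep_inv_apply g)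
  have hkey : (∃ c : k, T.rep g u₁ = c • u₁) ∧ ∃ c : k, T.rep g u₂ = c • u₂ := by
    rcases hclass _ (hgR _ hu1R) (himg _ hu1R hiso₁) with ⟨a, ha⟩ | ⟨a, ha⟩ <;>
      rcases hclass _ (hgR _ hu2R) (himg _ hu2R hiso₂) with ⟨b, hb⟩ | ⟨b, hb⟩
    · exfalso
      have e := T.inv g u₁ u₂
      rw [ha, hb, map_smul, map_smul, LinearMap.smul_apply, hiso₁, smul_zero, smul_zero] at e
      exact hcne e.symm
    · exact ⟨⟨a, ha⟩, b, hb⟩
    · exfalso
      have e := T.inv g u₁ u₂
      rw [ha, hb, map_smul, map_smul, LinearMap.smul_apply, T.symm u₂ u₁, smul_smul,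
        smul_eq_mul] at e
      have hab : b * a = 1 := mul_right_cancel₀ hcne (by rw [e, one_mul])
      have hfix : T.rep g (u₁ + a • u₂) = u₁ + a • u₂ := by
        rw [map_add, map_smul, ha, hb, smul_smul, mul_comm, hab, one_smul, add_comm]
      have h0 := T.inf_ker_range hg (v := u₁ + a • u₂)
        (by rw [LinearMap.mem_ker, LinearMap.sub_apply, Module.End.one_apply, hfix, sub_self])
        (add_mem hu1R (Submodule.smul_mem _ _ hu2R))
      exact hsep (-a) (by rw [neg_smul]; exact eq_neg_of_add_eq_zero_left h0)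
    · exfalso
      have e := T.inv g u₁ u₂
      rw [ha, hb, map_smul, map_smul, LinearMap.smul_apply, hiso₂, smul_zero, smul_zero] at e
      exact hcne e.symm
  refine ⟨u₁, u₂, hu10, hu20, hiso₁, hiso₂, fun e => ?_, hkey.1, hkey.2, fun w hw hww hc => ?_⟩
  · obtain ⟨a, ha⟩ := Submodule.mem_span_singleton.1 (e ▸ Submodule.mem_span_singleton_self u₁)
    exact hsep a ha.symm
  · obtain ⟨c, hc⟩ := hc
    have hc1 : c ≠ 1 := fun e => hg1 (T.eq_one_of_isotropic hinj hT h2 hg hw hww
      (by rw [hc, e, one_smul]))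
    have hwR : w ∈ R := ⟨(c - 1)⁻¹ • w, by
      rw [map_smul, LinearMap.sub_apply, Module.End.one_apply, hc,
        show c • w - w = (c - 1) • w by rw [sub_smul, one_smul], smul_smul,
        inv_mul_cancel₀ (sub_ne_zero.2 hc1), one_smul]⟩
    rcases hclass w hwR hww with ⟨a, rfl⟩ | ⟨a, rfl⟩
    · exact Or.inl (Submodule.smul_mem _ _ (Submodule.mem_span_singleton_self _))
    · exact Or.inr (Submodule.smul_mem _ _ (Submodule.mem_span_singleton_self _))

/-- An element of order prime to `p` commuting with `y` is trivial. -/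
lemma eq_one_of_commute (hinj : Function.Injective T.rep) (hT : T.Special) (h2 : (2 : k) ≠ 0)
    {g : G} (hg : ¬ p ∣ orderOf g) (hc : Commute g y) : g = 1 := by
  have hcr : ∀ w, T.rep y (T.rep g w) = T.rep g (T.rep y w) := fun w => by
    rw [← Module.End.mul_apply, ← map_mul, ← hc.eq, map_mul, Module.End.mul_apply]
  obtain ⟨a, ha⟩ := T.fixed_y (w := T.rep g T.e) (by rw [hcr, T.y_e])
  obtain ⟨b, hb⟩ := T.fixed_y (w := T.rep g T.g₀ - a • T.g₀) (by
    rw [map_sub, map_smul, hcr, T.y_g, map_add, ha, smul_add]; abel)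
  rw [sub_eq_iff_eq_add] at hb
  obtain ⟨c, hc'⟩ := T.fixed_y (w := T.rep g T.f - a • T.f - b • T.g₀) (by
    rw [map_sub, map_sub, map_smul, map_smul, hcr, T.y_f, T.y_g, map_add, hb, smul_add, smul_add]
    abel)
  rw [sub_eq_iff_eq_add, sub_eq_iff_eq_add] at hc'
  have hdet := hT g
  have e0 : T.e = T.basis 0 := (T.basis_apply 0).symm
  have e1 : T.g₀ = T.basis 1 := (T.basis_apply 1).symm
  have e2 : T.f = T.basis 2 := (T.basis_apply 2).symm
  have ha3 : a * a * a = 1 := by
    rw [← LinearMap.det_toMatrix T.basis, Matrix.det_fin_three] at hdet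
    simp only [LinearMap.toMatrix_apply, ← e0, ← e1, ← e2, ha, hb, hc'] at hdet
    simpa [e0, e1, e2] using hdet
  have ha2 : a * a = 1 := by
    have h := T.inv g T.e T.f
    rw [ha, hc'] at h
    simp only [map_add, map_smul, LinearMap.add_apply, LinearMap.smul_apply, T.form_ee, T.form_eg,
      smul_eq_mul, mul_zero, zero_add] at h
    exact mul_right_cancel₀ T.form_ef (by rw [one_mul]; linear_combination h)
  have ha1 : a = 1 := by linear_combination ha3 - a * ha2
  exact T.eq_one_of_isotropic hinj hT h2 hg T.e_ne T.form_ee (by rw [ha, ha1, one_smul])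

end ThreeRep

end Cfsg.Lib.Blocks.HalfDegree
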