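import Mathlib
import Cfsg.Agent.Blocks.HalfDegree.Fixed

/-!
# Counting fixed isotropic lines

A finite three dimensional orthogonal group in characteristic `p` with a self-centralizing
subgroup of order `p` whose normalizer has order `p (p - 1) / 2` has `p + 1` Sylow subgroups.
-/

set_option autoImplicit false
set_option linter.unusedSectionVars false

namespace Cfsg.Lib.Blocks.HalfDegree

open Module MulAction
open scoped Classical

universe u v w

/-- The arithmetic of the orbit equation. -/
lemma arith_orbits {p m n S R g : ℕ} (hp : 2 * m + 1 = p) (hm : 2 ≤ m) (hn : 0 < n)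
    (hmod : n ≡ 1 [MOD p]) (hn1 : n ≠ 1) (hg : g = n * p * m)
    (hR : 2 * S + g ≤ R * g) (hdvd : R = 2 → S ∣ g) (hR1 : R = 1 → S = 0)
    (heq : S + 2 * g = R * g + 2 + n * (p - 2)) : n = p + 1 := by
  have hnp : n * (p - 2) + 2 * n = n * p := by
    rw [mul_comm 2 n, ← mul_add, Nat.sub_add_cancel (by omega)]
  have hbig : n * p * 2 ≤ g := hg ▸ Nat.mul_le_mul_left _ hm
  have hR2 : R = 2 := by
    rcases Nat.lt_or_ge R 2 with h | h
    · exfalso
      have : R = 0 ∨ R = 1 := by omega
      rcases this with rfl | rfl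
      · have : n * p > 0 := Nat.mul_pos hn (by omega)
        omega
      · rw [hR1 rfl] at heq
        have : 5 * n ≤ n * p := by rw [mul_comm n p]; exact Nat.mul_le_mul_right _ (by omega)
        omega
    · rcases Nat.eq_or_lt_of_le h with h | h
      · exact h.symm
      · exfalso
        have : 3 * g ≤ R * g := Nat.mul_le_mul_right _ h
        omega
  subst hR2
  have hS : S = 2 + n * (p - 2) := by omega
  obtain ⟨k, hk⟩ : ∃ k, n = 1 + p * k := by
    obtain ⟨k, hk⟩ := (Nat.modEq_iff_dvd' (show 1 ≤ n by omega)).1 hmod.symm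
    exact ⟨k, by omega⟩
  have hk0 : 0 < k := by
    rcases Nat.eq_zero_or_pos k with rfl | h
    · exact absurd (by simpa using hk) hn1
    · exact h
  have hS' : S = p * (k * (p - 2) + 1) := by
    rw [hS, hk, add_mul, one_mul, mul_add, mul_one, ← mul_assoc]
    have : p - 2 + 2 = p := by omega
    omega
  have hd : k * (p - 2) + 1 ∣ n * m := by
    have h := hdvd rfl
    rw [hS', hg, show n * p * m = p * (n * m) by ring] at h
    exact (Nat.mul_dvd_mul_iff_left (by omega)).1 h
  obtain ⟨d₁, d₂, hd₁, hd₂, he⟩ := dvd_mul.1 hd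
  have hd₁2 : d₁ ∣ 2 := by
    have h1 : d₁ ∣ n * (p - 2) := hd₁.mul_right _
    have h2 : d₁ ∣ p * (k * (p - 2) + 1) := Dvd.dvd.mul_left ⟨d₂, he⟩ _
    rw [← hS', hS] at h2
    have := Nat.dvd_sub h2 h1
    rwa [Nat.add_sub_cancel] at this
  have hle : k * (p - 2) + 1 ≤ 2 * m :=
    Nat.le_of_dvd (by omega) (he ▸ mul_dvd_mul hd₁2 hd₂)
  have hk1 : k = 1 := by
    by_contra h
    have : 2 * (p - 2) ≤ k * (p - 2) := Nat.mul_le_mul_right _ (by omega)
    omega
  rw [hk, hk1, mul_one, add_comm]

variable {G : Type u} [Group G] [Fintype G] {p : ℕ} [Fact p.Prime] {k : Type v} [Field k]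
  [CharP k p] {W : Type w} [AddCommGroup W] [Module k W] [FiniteDimensional k W] {y : G}

namespace ThreeRep

variable (T : ThreeRep k W y)

/-- The standing hypotheses. -/
structure Good : Prop where
  inj : Function.Injective T.rep
  special : T.Special
  two : (2 : k) ≠ 0
  order : orderOf y = p
  sq : ¬ p ^ 2 ∣ Nat.card G

variable {T}

lemma Good.sylow (h : Good (p := p) T) : ∃ P : Sylow p G, (P : Subgroup G) = Subgroup.zpowers y := by
  have hp := (Fact.out : p.Prime)
  have hdiv : p ∣ Nat.card G := h.order ▸ orderOf_dvd_natCard y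
  have h1 : (Nat.card G).factorization p = 1 := by
    refine le_antisymm ?_ (hp.factorization_pos_of_dvd Nat.card_pos.ne' hdiv)
    by_contra h2
    exact h.sq ((hp.pow_dvd_iff_le_factorization Nat.card_pos.ne').2 (by omega))
  exact ⟨Sylow.ofCard (Subgroup.zpowers y) (by rw [Nat.card_zpowers, h.order, h1, pow_one]), rfl⟩

lemma Good.mem_zpowers_of_commute (h : Good (p := p) T) {g : G} (hc : Commute g y) :
    g ∈ Subgroup.zpowers y := by
  obtain ⟨P, hP⟩ := h.sylow
  have hgp : g ^ p = 1 := by
    refine T.eq_one_of_commute h.inj h.special h.two (fun hd => ?_) (hc.pow_left p)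
    rcases eq_or_ne ((orderOf g).gcd p) 1 with e | e
    · rw [orderOf_pow' g (Fact.out : p.Prime).ne_zero, e, Nat.div_one] at hd
      exact (Fact.out : p.Prime).ne_one (Nat.eq_one_of_dvd_one
        (e ▸ Nat.dvd_gcd hd dvd_rfl))
    · have e' : (orderOf g).gcd p = p :=
        ((Nat.dvd_prime (Fact.out : p.Prime)).1 (Nat.gcd_dvd_right _ _)).resolve_left e
      rw [orderOf_pow' g (Fact.out : p.Prime).ne_zero, e'] at hd
      obtain ⟨c, hc'⟩ := e' ▸ Nat.gcd_dvd_left (orderOf g) p
      rw [hc', Nat.mul_div_cancel_left _ (Fact.out : p.Prime).pos] at hd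
      exact h.sq ((pow_two p ▸ hc' ▸ Nat.mul_dvd_mul_left p hd).trans (orderOf_dvd_natCard g))
  have hgP : IsPGroup p (Subgroup.zpowers g) := by
    intro z
    obtain ⟨i, hi⟩ := z.2
    refine ⟨1, Subtype.ext ?_⟩
    rw [pow_one, SubmonoidClass.coe_pow, ← hi, OneMemClass.coe_one]
    simp only [← zpow_natCast, ← zpow_mul, mul_comm i]
    rw [zpow_mul, zpow_natCast, hgp, one_zpow]
  have hN : g ∈ Subgroup.normalizer ((P : Subgroup G) : Set G) := by
    refine Subgroup.centralizer_le_normalizer _ ?_
    rw [Subgroup.mem_centralizer_iff]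
    intro z hz
    rw [SetLike.mem_coe, hP] at hz
    obtain ⟨i, rfl⟩ := hz
    exact (hc.symm.zpow_left i).eq
  rw [← hP]
  exact ((hgP.inf_normalizer_sylow P).le ⟨Subgroup.mem_zpowers g, hN⟩).2

/-- A singular element is conjugate into the subgroup of `y`. -/
lemma Good.exists_conj (h : Good (p := p) T) {g : G} (hg : p ∣ orderOf g) :
    ∃ a : G, a⁻¹ * g * a ∈ Subgroup.zpowers y := by
  obtain ⟨P, hP⟩ := h.sylow
  obtain ⟨z, hz, hzg⟩ : ∃ z : G, orderOf z = p ∧ Commute g z :=
    ⟨g ^ (orderOf g / p), orderOf_pow_orderOf_div (orderOf_pos g).ne' hg, Commute.self_pow g _⟩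
  have hzP : IsPGroup p (Subgroup.zpowers z) :=
    IsPGroup.of_card (n := 1) (by rw [Nat.card_zpowers, hz, pow_one])
  obtain ⟨Q, hQ⟩ := hzP.exists_le_sylow
  obtain ⟨a, rfl⟩ := MulAction.exists_smul_eq G P Q
  refine ⟨a, h.mem_zpowers_of_commute ?_⟩
  have hmem : a⁻¹ * z * a ∈ Subgroup.zpowers y := by
    rw [← hP]
    have := hQ (Subgroup.mem_zpowers z)
    rw [Sylow.coe_subgroup_smul, Subgroup.mem_pointwise_smul_iff_inv_smul_mem] at this
    simpa [MulAut.conj_symm_apply, mul_assoc] using this
  have hyz : y ∈ Subgroup.zpowers (a⁻¹ * z * a) := by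
    rw [Subgroup.eq_of_le_of_card_ge (Subgroup.zpowers_le.2 hmem) (by
      rw [Nat.card_zpowers, Nat.card_zpowers, h.order,
        show a⁻¹ * z * a = MulAut.conj a⁻¹ z by simp [mul_assoc], MulEquiv.orderOf_eq, hz])]
    exact Subgroup.mem_zpowers y
  obtain ⟨i, hi⟩ := hyz
  rw [← hi]
  refine Commute.zpow_right ?_ i
  show _ * _ = _ * _
  calc a⁻¹ * g * a * (a⁻¹ * z * a) = a⁻¹ * (g * z) * a := by group
    _ = _ := by rw [hzg.eq]; group

variable (T)

/-- The isotropic lines. -/
def Line : Type w :=
  {L : Submodule k W // ∃ w : W, w ≠ 0 ∧ T.form w w = 0 ∧ L = Submodule.span k {w}}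

lemma map_span (g : G) (w : W) :
    (Submodule.span k {w}).map (T.rep g) = Submodule.span k {T.rep g w} := by
  rw [Submodule.map_span, Set.image_singleton]

instance : SMul G T.Line :=
  ⟨fun g L => ⟨L.1.map (T.rep g), by
    obtain ⟨w, hw, hiso, e⟩ := L.2
    exact ⟨T.rep g w, fun h => hw (by rw [← T.rep_inv_apply g w, h, map_zero]),
      by rw [T.inv, hiso], by rw [e, T.map_span]⟩⟩⟩

instance : MulAction G T.Line where
  one_smul L := Subtype.ext (by
    show L.1.map (T.rep 1) = L.1
    rw [map_one]; exact Submodule.map_id _)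
  mul_smul a b L := Subtype.ext (by
    show L.1.map (T.rep (a * b)) = (L.1.map (T.rep b)).map (T.rep a)
    rw [map_mul]; exact Submodule.map_comp _ _ _)

/-- The line of a vector. -/
def mkLine (w : W) (hw : w ≠ 0) (hiso : T.form w w = 0) : T.Line :=
  ⟨Submodule.span k {w}, w, hw, hiso, rfl⟩

/-- The line fixed by `y`. -/
def base : T.Line := T.mkLine T.e T.e_ne T.form_ee

lemma smul_mkLine (g : G) (w : W) (hw : w ≠ 0) (hiso : T.form w w = 0) :
    g • T.mkLine w hw hiso = T.mkLine w hw hiso ↔ ∃ c : k, T.rep g w = c • w := by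
  constructor
  · intro h
    have h1 : (Submodule.span k {w}).map (T.rep g) = Submodule.span k {w} := congrArg Subtype.val h
    rw [T.map_span] at h1
    obtain ⟨c, hc⟩ := Submodule.mem_span_singleton.1 (h1 ▸ Submodule.mem_span_singleton_self _)
    exact ⟨c, hc.symm⟩
  · rintro ⟨c, hc⟩
    refine Subtype.ext ?_
    show (Submodule.span k {w}).map (T.rep g) = Submodule.span k {w}
    rw [T.map_span, hc]
    refine Submodule.span_singleton_smul_eq (IsUnit.mk0 c fun e => hw ?_) w
    rw [← T.rep_inv_apply g w, hc, e, zero_smul, map_zero]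

variable {T}

lemma eq_base_of_fixed {L : T.Line} {w : W} (hw : w ≠ 0) (hL : L.1 = Submodule.span k {w})
    (hfix : T.rep y w = w) : L = T.base := by
  obtain ⟨a, rfl⟩ := T.fixed_y hfix
  refine Subtype.ext ?_
  rw [hL]
  exact Submodule.span_singleton_smul_eq (IsUnit.mk0 a fun e => hw (by rw [e, zero_smul])) T.e

/-- A `p`-element fixing a line fixes it pointwise. -/
lemma rep_eq_of_pow {g : G} (hg : g ^ p = 1) {w : W} (hw : w ≠ 0) {c : k}
    (hc : T.rep g w = c • w) : T.rep g w = w := by
  have h : ∀ j : ℕ, T.rep (g ^ j) w = c ^ j • w := by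
    intro j
    induction j with
    | zero => simp
    | succ j ih =>
      rw [pow_succ', map_mul, Module.End.mul_apply, ih, map_smul, hc, smul_smul, ← pow_succ]
  have h1 := h p
  rw [hg, map_one, Module.End.one_apply] at h1
  have h2 : c ^ p = 1 := (smul_left_injective k hw (by simpa using h1)).symm
  have h3 : (c - 1) ^ p = 0 := by rw [sub_pow_char, h2, one_pow, sub_self]
  rw [hc, sub_eq_zero.1 (pow_eq_zero_iff (Fact.out : p.Prime).ne_zero |>.1 h3), one_smul]

lemma Good.pow_zpowers (h : Good (p := p) T) {z : G} (hz : z ∈ Subgroup.zpowers y) : z ^ p = 1 := by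
  obtain ⟨i, rfl⟩ := hz
  simp only [← zpow_natCast, ← zpow_mul, mul_comm i]
  rw [zpow_mul, zpow_natCast, ← h.order, pow_orderOf_eq_one, one_zpow]

lemma rep_e_of_mem {z : G} (hz : z ∈ Subgroup.zpowers y) : T.rep z T.e = T.e := by
  let S : Subgroup G :=
    { carrier := {x | T.rep x T.e = T.e}
      one_mem' := by simp
      mul_mem' := fun {a b} ha hb => by
        show T.rep (a * b) T.e = T.e
        rw [map_mul, Module.End.mul_apply, hb, ha]
      inv_mem' := fun {a} ha => by
        show T.rep a⁻¹ T.e = T.e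
        conv_lhs => rw [← show T.rep a T.e = T.e from ha]
        exact T.rep_inv_apply a T.e }
  exact (Subgroup.zpowers_le.2 (show y ∈ S from T.y_e)) hz

lemma Good.mem_zpowers_gen (h : Good (p := p) T) {z : G} (hz : z ∈ Subgroup.zpowers y)
    (hz1 : z ≠ 1) : y ∈ Subgroup.zpowers z := by
  rw [Subgroup.eq_of_le_of_card_ge (Subgroup.zpowers_le.2 hz) (by
    rw [Nat.card_zpowers, Nat.card_zpowers, h.order,
      orderOf_eq_prime (h.pow_zpowers hz) hz1])]
  exact Subgroup.mem_zpowers y

/-- A nontrivial element of the subgroup of `y` fixes only the base line. -/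
lemma Good.fixed_zpowers (h : Good (p := p) T) {z : G} (hz : z ∈ Subgroup.zpowers y) (hz1 : z ≠ 1)
    (L : T.Line) : z • L = L ↔ L = T.base := by
  constructor
  · intro hL
    obtain ⟨w, hw, hiso, e⟩ := L.2
    rw [show L = T.mkLine w hw hiso from Subtype.ext e, T.smul_mkLine] at hL
    obtain ⟨c, hc⟩ := hL
    have hfix := rep_eq_of_pow (h.pow_zpowers hz) hw hc
    refine eq_base_of_fixed hw e ?_
    let S : Subgroup G :=
      { carrier := {x | T.rep x w = w}
        one_mem' := by simp
        mul_mem' := fun {a b} ha hb => by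
          show T.rep (a * b) w = w
          rw [map_mul, Module.End.mul_apply, hb, ha]
        inv_mem' := fun {a} ha => by
          show T.rep a⁻¹ w = w
          conv_lhs => rw [← show T.rep a w = w from ha]
          exact T.rep_inv_apply a w }
    exact (Subgroup.zpowers_le.2 (show z ∈ S from hfix)) (h.mem_zpowers_gen hz hz1)
  · rintro rfl
    exact (T.smul_mkLine _ _ _ _).2 ⟨1, by rw [rep_e_of_mem hz, one_smul]⟩

/-- The stabilizer of the base line is the normalizer. -/
lemma Good.stabilizer_base (h : Good (p := p) T) :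
    stabilizer G T.base = Subgroup.normalizer (Subgroup.zpowers y : Set G) := by
  let M : Subgroup G :=
    { carrier := {x | T.rep x T.e = T.e}
      one_mem' := by simp
      mul_mem' := fun {a b} ha hb => by
        show T.rep (a * b) T.e = T.e
        rw [map_mul, Module.End.mul_apply, hb, ha]
      inv_mem' := fun {a} ha => by
        show T.rep a⁻¹ T.e = T.e
        conv_lhs => rw [← show T.rep a T.e = T.e from ha]
        exact T.rep_inv_apply a T.e }
  have hM : M = Subgroup.zpowers y := by
    obtain ⟨P, hP⟩ := h.sylow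
    rw [← hP]
    refine P.is_maximal' (fun x => ⟨1, ?_⟩) fun z hz => ?_
    · rw [pow_one]
      refine Subtype.ext ?_
      rw [SubmonoidClass.coe_pow, OneMemClass.coe_one]
      by_cases hx : p ∣ orderOf (x : G)
      · obtain ⟨a, ha⟩ := h.exists_conj hx
        have := h.pow_zpowers ha
        rwa [show a⁻¹ * (x : G) * a = a⁻¹ * (x : G) * (a⁻¹)⁻¹ by rw [inv_inv], conj_pow,
          inv_inv, mul_eq_one_iff_eq_inv, mul_eq_left] at this
      · rw [T.eq_one_of_isotropic h.inj h.special h.two hx T.e_ne T.form_ee x.2, one_pow]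
    · rw [hP] at hz
      exact rep_e_of_mem hz
  refine le_antisymm (fun g hg => ?_) fun g hg => ?_
  · rw [mem_stabilizer_iff, base, T.smul_mkLine] at hg
    obtain ⟨c, hc⟩ := hg
    have hci : T.rep g⁻¹ T.e = c⁻¹ • T.e := by
      have h1 := congrArg (T.rep g⁻¹) hc
      rw [T.rep_inv_apply, map_smul] at h1
      have hc0 : c ≠ 0 := fun e => T.e_ne (by rw [h1, e, zero_smul])
      conv_rhs => rw [h1, smul_smul, inv_mul_cancel₀ hc0, one_smul]
    refine Subgroup.mem_normalizer_iff.2 fun z => ?_
    rw [← hM]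
    show T.rep z T.e = T.e ↔ T.rep (g * z * g⁻¹) T.e = T.e
    have hc0 : c⁻¹ ≠ 0 := fun e => T.e_ne (by
      have := congrArg (T.rep g) hci
      rw [e, zero_smul, map_zero] at this
      rwa [← Module.End.mul_apply, ← map_mul, mul_inv_cancel, map_one, Module.End.one_apply] at this)
    rw [map_mul, map_mul, Module.End.mul_apply, Module.End.mul_apply, hci, map_smul, map_smul]
    constructor
    · intro hz
      rw [hz, hc, smul_smul, inv_mul_cancel₀ (fun z => hc0 (by rw [z, inv_zero])), one_smul]
    · intro hz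
      have h1 := congrArg (T.rep g⁻¹) hz
      rw [map_smul, T.rep_inv_apply, hci] at h1
      exact smul_right_injective W hc0 h1
  · have hz : g⁻¹ * y * g ∈ Subgroup.zpowers y := by
      have := (Subgroup.mem_normalizer_iff.1 (inv_mem hg) y).1 (Subgroup.mem_zpowers y)
      rwa [inv_inv] at this
    have hy : T.rep y (T.rep g T.e) = T.rep g T.e := by
      rw [← Module.End.mul_apply, ← map_mul, show y * g = g * (g⁻¹ * y * g) by group, map_mul,
        Module.End.mul_apply, rep_e_of_mem hz]
    obtain ⟨a, ha⟩ := T.fixed_y hy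
    exact (T.smul_mkLine _ _ _ _).2 ⟨a, ha⟩

/-- A singular element fixes exactly one line. -/
lemma Good.fixed_conj (h : Good (p := p) T) {g a : G} (ha : a⁻¹ * g * a ∈ Subgroup.zpowers y)
    (hg1 : g ≠ 1) (L : T.Line) : g • L = L ↔ L = a • T.base := by
  have hz1 : a⁻¹ * g * a ≠ 1 := fun e => hg1 (by
    calc g = a * (a⁻¹ * g * a) * a⁻¹ := by group
      _ = 1 := by rw [e]; group)
  rw [← inv_smul_eq_iff (g := a), ← h.fixed_zpowers ha hz1 (a⁻¹ • L), mul_smul, mul_smul,
    smul_inv_smul, smul_left_cancel_iff]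

variable (T)

/-- The lines fixed by some nontrivial element. -/
def Special' : Set T.Line := {L | ∃ g : G, g ≠ 1 ∧ g • L = L}

lemma finite_fixed [IsAlgClosed k] (h : Good (p := p) T) {g : G} (hg1 : g ≠ 1) :
    ({L : T.Line | g • L = L}).Finite ∧
      Nat.card {L : T.Line // g • L = L} = if p ∣ orderOf g then 1 else 2 := by
  by_cases hg : p ∣ orderOf g
  · obtain ⟨a, ha⟩ := h.exists_conj hg
    have e : {L : T.Line | g • L = L} = {a • T.base} := Set.ext fun L => h.fixed_conj ha hg1 L
    refine ⟨e ▸ Set.finite_singleton _, ?_⟩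
    rw [if_pos hg]
    exact (Nat.card_congr (Equiv.setCongr e)).trans (by simp)
  · obtain ⟨u₁, u₂, h1, h2, i1, i2, hne, f1, f2, hall⟩ :=
      T.exists_two_lines h.inj h.special h.two hg hg1
    have e : {L : T.Line | g • L = L} = {T.mkLine u₁ h1 i1, T.mkLine u₂ h2 i2} := by
      ext L
      constructor
      · intro hL
        obtain ⟨w, hw, hiso, e⟩ := L.2
        rw [Set.mem_setOf_eq, show L = T.mkLine w hw hiso from Subtype.ext e, T.smul_mkLine] at hL
        rcases hall w hw hiso hL with hm | hm <;>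
          obtain ⟨a, rfl⟩ := Submodule.mem_span_singleton.1 hm
        · left
          refine Subtype.ext (e.trans ?_)
          exact Submodule.span_singleton_smul_eq
            (IsUnit.mk0 a fun z => hw (by rw [z, zero_smul])) u₁
        · right
          refine Subtype.ext (e.trans ?_)
          exact Submodule.span_singleton_smul_eq
            (IsUnit.mk0 a fun z => hw (by rw [z, zero_smul])) u₂
      · rintro (rfl | rfl)
        · exact (T.smul_mkLine _ _ _ _).2 f1
        · exact (T.smul_mkLine _ _ _ _).2 f2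
    refine ⟨e ▸ Set.toFinite _, ?_⟩
    rw [if_neg hg]
    refine (Nat.card_congr (Equiv.setCongr e)).trans ?_
    rw [Nat.card_coe_set_eq, Set.ncard_pair]
    exact fun z => hne (congrArg Subtype.val z)

lemma finite_special [IsAlgClosed k] (h : Good (p := p) T) : T.Special'.Finite := by
  have e : T.Special' = ⋃ g ∈ {g : G | g ≠ 1}, {L : T.Line | g • L = L} := by
    ext L; simp [Special']
  rw [e]
  exact (Set.toFinite _).biUnion fun g hg => (T.finite_fixed h hg).1

/-- The invariant set of special lines. -/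
def omega : SubMulAction G T.Line where
  carrier := T.Special'
  smul_mem' a L := by
    rintro ⟨g, hg, e⟩
    refine ⟨a * g * a⁻¹, fun h => hg ?_, ?_⟩
    · calc g = a⁻¹ * (a * g * a⁻¹) * a := by group
        _ = 1 := by rw [h]; group
    · rw [mul_smul, mul_smul, inv_smul_smul, e]

variable {T}

/-- The number of singular elements. -/
lemma Good.card_singular (h : Good (p := p) T) :
    (Finset.univ.filter fun g : G => p ∣ orderOf g).card =
      (Subgroup.normalizer (Subgroup.zpowers y : Set G)).index * (p - 1) := by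
  set N := Subgroup.normalizer (Subgroup.zpowers y : Set G) with hN
  let f : (G ⧸ N) × {z : Subgroup.zpowers y // z ≠ 1} → {g : G // p ∣ orderOf g} := fun x =>
    ⟨x.1.out * (x.2.1 : G) * x.1.out⁻¹, by
      rw [show x.1.out * (x.2.1 : G) * x.1.out⁻¹ = MulAut.conj x.1.out (x.2.1 : G) from rfl,
        MulEquiv.orderOf_eq, orderOf_eq_prime (h.pow_zpowers x.2.1.2)
          fun e => x.2.2 (Subtype.ext e)]⟩
  have hf : Function.Bijective f := by
    constructor
    · rintro ⟨a, z, hz⟩ ⟨b, z', hz'⟩ e
      have e1 : a.out * (z : G) * a.out⁻¹ = b.out * (z' : G) * b.out⁻¹ := congrArg Subtype.val e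
      have hne : b.out * (z' : G) * b.out⁻¹ ≠ 1 := fun q => hz' (Subtype.ext (by
        calc (z' : G) = b.out⁻¹ * (b.out * (z' : G) * b.out⁻¹) * b.out := by group
          _ = 1 := by rw [q]; group))
      have hbase : a.out • T.base = b.out • T.base := by
        refine (h.fixed_conj (g := b.out * (z' : G) * b.out⁻¹) (a := b.out) ?_ hne _).1 ?_
        · convert z'.2 using 1; group
        · rw [← e1]
          refine (h.fixed_conj (a := a.out) ?_ (e1 ▸ hne) _).2 rfl
          convert z.2 using 1; group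
      have hab : a = b := by
        have hm : (a.out)⁻¹ * b.out ∈ stabilizer G T.base := mem_stabilizer_iff.2 (by
          rw [mul_smul, ← hbase, inv_smul_smul])
        rw [h.stabilizer_base] at hm
        rw [← a.out_eq', ← b.out_eq', QuotientGroup.eq]
        exact hm
      subst hab
      exact Prod.ext rfl (Subtype.ext (Subtype.ext (mul_left_cancel (mul_right_cancel e1))))
    · rintro ⟨g, hg⟩
      obtain ⟨a, ha⟩ := h.exists_conj hg
      obtain ⟨n, hn⟩ := QuotientGroup.mk_out_eq_mul N a
      set b := (a : G ⧸ N).out with hb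
      have hmem : b⁻¹ * g * b ∈ Subgroup.zpowers y := by
        have h1 := (Subgroup.mem_normalizer_iff.1 (inv_mem n.2) _).1 ha
        convert h1 using 1
        rw [hn]; group
      refine ⟨⟨(a : G ⧸ N), ⟨⟨b⁻¹ * g * b, hmem⟩, fun e => ?_⟩⟩, Subtype.ext (by
        show b * (b⁻¹ * g * b) * b⁻¹ = g
        group)⟩
      have h1 : b⁻¹ * g * b = 1 := congrArg Subtype.val e
      rw [show g = b * (b⁻¹ * g * b) * b⁻¹ by group, h1, mul_one, mul_inv_cancel, orderOf_one] at hg
      exact (Fact.out : p.Prime).ne_one (Nat.eq_one_of_dvd_one hg)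
  rw [← Fintype.card_subtype, ← Nat.card_eq_fintype_card, ← Nat.card_congr (Equiv.ofBijective f hf),
    Nat.card_prod, ← Subgroup.index_eq_card]
  congr 1
  rw [Nat.card_eq_fintype_card, Fintype.card_subtype_compl, Fintype.card_subtype_eq,
    ← Nat.card_eq_fintype_card, Nat.card_zpowers, h.order]

/-- The number of Sylow subgroups. -/
theorem Good.index_normalizer [IsAlgClosed k] (h : Good (p := p) T) {m : ℕ} (hm : 2 ≤ m)
    (hp : 2 * m + 1 = p)
    (hN : Nat.card (Subgroup.normalizer (Subgroup.zpowers y : Set G)) = p * m)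
    (hnn : Subgroup.normalizer (Subgroup.zpowers y : Set G) ≠ ⊤) :
    (Subgroup.normalizer (Subgroup.zpowers y : Set G)).index = p + 1 := by
  have hpr := (Fact.out : p.Prime)
  set N := Subgroup.normalizer (Subgroup.zpowers y : Set G) with hNdef
  set n := N.index with hn
  obtain ⟨P, hP⟩ := h.sylow
  have hmod : n ≡ 1 [MOD p] := by
    have h1 := card_sylow_modEq_one p G
    have e : (P : Set G) = (Subgroup.zpowers y : Set G) := by rw [← hP]; rfl
    rwa [P.card_eq_index_normalizer, e] at h1
  have hg : Nat.card G = n * p * m := by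
    rw [← N.index_mul_card, hN, mul_assoc]
  let Ω := T.omega
  have : Finite Ω := (T.finite_special h).to_subtype
  let _ : Fintype Ω := Fintype.ofFinite Ω
  let _ : ∀ g : G, Fintype (fixedBy Ω g) := fun g => Fintype.ofFinite _
  let _ : Fintype (Quotient (orbitRel G Ω)) := Fintype.ofFinite _
  have hburn := MulAction.sum_card_fixedBy_eq_card_orbits_mul_card_group G Ω
  have hfix : ∀ g : G, g ≠ 1 →
      Fintype.card (fixedBy Ω g) + (if p ∣ orderOf g then 1 else 0) = 2 := by
    intro g hg1
    have e : Fintype.card (fixedBy Ω g) = Nat.card {L : T.Line // g • L = L} := by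
      rw [← Nat.card_eq_fintype_card]
      refine Nat.card_congr
        { toFun := fun x => ⟨x.1.1, congrArg Subtype.val x.2⟩
          invFun := fun L => ⟨⟨L.1, g, hg1, L.2⟩, Subtype.ext L.2⟩
          left_inv := fun x => rfl
          right_inv := fun x => rfl }
    rw [e, (T.finite_fixed h hg1).2]
    split_ifs <;> rfl
  have hone : Fintype.card (fixedBy Ω (1 : G)) = Fintype.card Ω := by
    simp [MulAction.fixedBy]
  have hsum : (∑ g : G, Fintype.card (fixedBy Ω g)) + n * (p - 1) + 2 =
      Fintype.card Ω + 2 * Nat.card G := by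
    have h1 : ∀ g : G, Fintype.card (fixedBy Ω g) + (if p ∣ orderOf g then 1 else 0) +
        (if g = 1 then 2 else 0) = 2 + (if g = 1 then Fintype.card Ω else 0) := by
      intro g
      rcases eq_or_ne g 1 with rfl | hg1
      · rw [hone, if_pos rfl, if_pos rfl, orderOf_one,
          if_neg (fun h => hpr.ne_one (Nat.eq_one_of_dvd_one h))]
        ring
      · rw [if_neg hg1, if_neg hg1, hfix g hg1]
    have h2 := Finset.sum_congr (rfl : (Finset.univ : Finset G) = Finset.univ) fun g _ => h1 g
    simp only [Finset.sum_add_distrib, Finset.sum_ite_eq', Finset.mem_univ, if_true,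
      Finset.sum_const, Finset.card_univ, smul_eq_mul, ← Finset.sum_filter, mul_one,
      h.card_singular, ← Nat.card_eq_fintype_card (α := G)] at h2
    rw [← hNdef, ← hn] at h2
    rw [h2]
    simp [Finset.filter_eq', mul_comm, add_comm]
  -- orbits
  set R := Fintype.card (Quotient (orbitRel G Ω)) with hR
  have hbaseΩ : T.base ∈ Ω := ⟨y, fun e => hpr.ne_one (by rw [← h.order, e, orderOf_one]),
    (T.smul_mkLine _ _ _ _).2 ⟨1, by rw [T.y_e, one_smul]⟩⟩
  set b : Ω := ⟨T.base, hbaseΩ⟩ with hb
  have horb : ∀ x : Ω, Nat.card (orbit G x) * Nat.card (stabilizer G x) = Nat.card G := fun x => by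
    rw [mul_comm, ← (stabilizer G x).card_mul_index, index_stabilizer, Nat.card_coe_set_eq]
  have hbn : Nat.card (orbit G b) = n := by
    rw [Nat.card_coe_set_eq, ← index_stabilizer, hn, hNdef, ← h.stabilizer_base,
      SubMulAction.stabilizer_of_subMul]
  have hhalf : ∀ x : Ω, 2 * Nat.card (orbit G x) ≤ Nat.card G := by
    intro x
    rw [← horb x, mul_comm]
    refine Nat.mul_le_mul_left _ ?_
    obtain ⟨g, hg1, e⟩ := x.2
    have : Nontrivial (stabilizer G x) :=
      ⟨⟨g, mem_stabilizer_iff.2 (Subtype.ext e)⟩, 1, fun q => hg1 (congrArg Subtype.val q)⟩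
    exact Finite.one_lt_card
  set qb : Quotient (orbitRel G Ω) := Quotient.mk'' b
  have htot : Fintype.card Ω = ∑ q : Quotient (orbitRel G Ω), Nat.card (orbit G q.out) := by
    rw [← Nat.card_eq_fintype_card, Nat.card_congr (selfEquivSigmaOrbits G Ω), Nat.card_sigma]
  have hqb : Nat.card (orbit G qb.out) = n := by
    rw [← hbn, orbit_eq_iff.2 (Quotient.exact (Quotient.out_eq qb) : qb.out ∈ orbit G b)]
  rw [← Finset.add_sum_erase _ _ (Finset.mem_univ qb), hqb] at htot
  set S := ∑ q ∈ Finset.univ.erase qb, Nat.card (orbit G q.out) with hS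
  have hcardE : (Finset.univ.erase qb).card = R - 1 := by
    rw [Finset.card_erase_of_mem (Finset.mem_univ _), Finset.card_univ]
  have hRpos : 1 ≤ R := Fintype.card_pos_iff.2 ⟨qb⟩
  have hSle : 2 * S + Nat.card G ≤ R * Nat.card G := by
    have h1 : 2 * S ≤ (R - 1) * Nat.card G := by
      rw [hS, Finset.mul_sum, ← hcardE]
      exact (Finset.sum_le_card_nsmul _ _ _ fun q _ => hhalf q.out).trans (le_of_eq (smul_eq_mul ..))
    conv_rhs => rw [← Nat.sub_add_cancel hRpos, add_mul, one_mul]
    omega
  have heq : S + 2 * Nat.card G = R * Nat.card G + 2 + n * (p - 2) := by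
    rw [hburn, ← Nat.card_eq_fintype_card (α := G), htot] at hsum
    have : n * (p - 1) = n * (p - 2) + n := by
      conv_rhs => arg 2; rw [← mul_one n]
      rw [← mul_add]
      congr 1
      omega
    omega
  have hR1 : R = 1 → S = 0 := fun e => by
    rw [hS, Finset.card_eq_zero.1 (show (Finset.univ.erase qb).card = 0 by omega), Finset.sum_empty]
  have hdvd : R = 2 → S ∣ Nat.card G := fun e => by
    obtain ⟨q, hq⟩ := Finset.card_eq_one.1 (show (Finset.univ.erase qb).card = 1 by omega)
    rw [hS, hq, Finset.sum_singleton, ← horb q.out]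
    exact dvd_mul_right _ _
  refine arith_orbits hp hm (Nat.pos_of_ne_zero Subgroup.index_ne_zero_of_finite) hmod
    (fun e => hnn (Subgroup.index_eq_one.1 e)) hg hSle hdvd hR1 heq

end ThreeRep

end Cfsg.Lib.Blocks.HalfDegree
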