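import Mathlib
import Cfsg.Prelude.Def_Perm

/-!
# A perfect group of semi-affine maps of a finite field is trivial
-/

set_option autoImplicit false

namespace Cfsg.Lib.Blocks.HalfDegree

open scoped commutatorElement

universe u

variable {F : Type u} [Field F]

/-- The affine maps. -/
def affMaps (F : Type u) [Field F] : Subgroup (Equiv.Perm F) where
  carrier := {σ | ∃ a b : F, a ≠ 0 ∧ ∀ x, σ x = a * x + b}
  one_mem' := ⟨1, 0, one_ne_zero, fun x => by simp⟩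
  mul_mem' := by
    rintro σ τ ⟨a, b, ha, hσ⟩ ⟨c, d, hc, hτ⟩
    exact ⟨a * c, a * d + b, mul_ne_zero ha hc, fun x => by
      rw [Equiv.Perm.coe_mul, Function.comp_apply, hτ, hσ]; ring⟩
  inv_mem' := by
    rintro σ ⟨a, b, ha, hσ⟩
    refine ⟨a⁻¹, -(a⁻¹ * b), inv_ne_zero ha, fun x => σ.injective ?_⟩
    rw [Equiv.Perm.inv_def, Equiv.apply_symm_apply, hσ]
    field_simp
    ring

/-- The translations. -/
def translations (F : Type u) [Field F] : Subgroup (Equiv.Perm F) where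
  carrier := {σ | ∃ b : F, ∀ x, σ x = x + b}
  one_mem' := ⟨0, fun x => by simp⟩
  mul_mem' := by
    rintro σ τ ⟨b, hσ⟩ ⟨d, hτ⟩
    exact ⟨d + b, fun x => by rw [Equiv.Perm.coe_mul, Function.comp_apply, hτ, hσ]; ring⟩
  inv_mem' := by
    rintro σ ⟨b, hσ⟩
    refine ⟨-b, fun x => σ.injective ?_⟩
    rw [Equiv.Perm.inv_def, Equiv.apply_symm_apply, hσ]
    ring

lemma comm_semiaffine_le (hcomm : ∀ (φ ψ : F ≃+* F) (x : F), φ (ψ x) = ψ (φ x)) :
    ⁅Cfsg.semiaffineGroup F, Cfsg.semiaffineGroup F⁆ ≤ affMaps F := by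
  rw [Subgroup.commutator_le]
  rintro σ ⟨a, b, φ, hσ⟩ τ ⟨c, d, ψ, hτ⟩
  set α : F := (a : F) * φ (c : F) with hα
  set γ : F := (c : F) * ψ (a : F) with hγ
  have hα0 : α ≠ 0 := mul_ne_zero a.ne_zero (by simp [c.ne_zero])
  have hγ0 : γ ≠ 0 := mul_ne_zero c.ne_zero (by simp [a.ne_zero])
  refine ⟨α * γ⁻¹, (a : F) * φ d + b - α * γ⁻¹ * ((c : F) * ψ b + d), mul_ne_zero hα0 (inv_ne_zero hγ0),
    fun z => ?_⟩
  obtain ⟨x, rfl⟩ : ∃ x, τ (σ x) = z := ⟨σ.symm (τ.symm z), by simp⟩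
  have e : ⁅σ, τ⁆ (τ (σ x)) = σ (τ x) := by
    simp only [commutatorElement_def, Equiv.Perm.coe_mul, Function.comp_apply,
      Equiv.Perm.inv_def, Equiv.symm_apply_apply]
  rw [e, hσ, hτ, hτ, hσ]
  simp only [map_add, map_mul, hcomm ψ φ x]
  rw [hα, hγ]
  field_simp [hγ0]
  ring

lemma comm_affMaps_le : ⁅affMaps F, affMaps F⁆ ≤ translations F := by
  rw [Subgroup.commutator_le]
  rintro σ ⟨a, b, ha, hσ⟩ τ ⟨c, d, hc, hτ⟩
  refine ⟨a * d + b - (c * b + d), fun z => ?_⟩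
  obtain ⟨x, rfl⟩ : ∃ x, τ (σ x) = z := ⟨σ.symm (τ.symm z), by simp⟩
  have e : ⁅σ, τ⁆ (τ (σ x)) = σ (τ x) := by
    simp only [commutatorElement_def, Equiv.Perm.coe_mul, Function.comp_apply,
      Equiv.Perm.inv_def, Equiv.symm_apply_apply]
  rw [e, hσ, hτ, hτ, hσ]
  ring

lemma comm_translations : ⁅translations F, translations F⁆ = ⊥ := by
  rw [eq_bot_iff, Subgroup.commutator_le]
  rintro σ ⟨b, hσ⟩ τ ⟨d, hτ⟩
  refine Subgroup.mem_bot.2 (Equiv.ext fun z => ?_)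
  obtain ⟨x, rfl⟩ : ∃ x, τ (σ x) = z := ⟨σ.symm (τ.symm z), by simp⟩
  have e : ⁅σ, τ⁆ (τ (σ x)) = σ (τ x) := by
    simp only [commutatorElement_def, Equiv.Perm.coe_mul, Function.comp_apply,
      Equiv.Perm.inv_def, Equiv.symm_apply_apply]
  rw [e, Equiv.Perm.one_apply, hσ, hτ, hτ, hσ]
  ring

/-- A perfect group of semi-affine maps of a Galois field is trivial. -/
theorem eq_bot_of_perfect_semiaffine (q : ℕ) (S : Subgroup (Equiv.Perm (GaloisField 2 q)))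
    (hS : S ≤ Cfsg.semiaffineGroup (GaloisField 2 q)) (hperf : ⁅S, S⁆ = S) : S = ⊥ := by
  have hcomm : ∀ (φ ψ : GaloisField 2 q ≃+* GaloisField 2 q) (x : GaloisField 2 q),
      φ (ψ x) = ψ (φ x) := by
    intro φ ψ x
    have lift : ∀ f : GaloisField 2 q ≃+* GaloisField 2 q,
        ∃ g : GaloisField 2 q ≃ₐ[ZMod 2] GaloisField 2 q, ∀ z, g z = f z := fun f =>
      ⟨AlgEquiv.ofRingEquiv (f := f) fun r => by
        rw [show (f : GaloisField 2 q → GaloisField 2 q) (algebraMap (ZMod 2) _ r) =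
          ((f : GaloisField 2 q →+* GaloisField 2 q).comp (algebraMap (ZMod 2) _)) r from rfl,
          RingHom.ext_zmod ((f : GaloisField 2 q →+* GaloisField 2 q).comp (algebraMap (ZMod 2) _))
            (algebraMap (ZMod 2) _)], fun z => rfl⟩
    obtain ⟨f, hf⟩ := lift φ
    obtain ⟨g, hg⟩ := lift ψ
    have : IsCyclic (GaloisField 2 q ≃ₐ[ZMod 2] GaloisField 2 q) := inferInstance
    let _ : CommGroup (GaloisField 2 q ≃ₐ[ZMod 2] GaloisField 2 q) :=
      IsCyclic.commGroup (α := GaloisField 2 q ≃ₐ[ZMod 2] GaloisField 2 q)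
    have h := AlgEquiv.congr_fun (mul_comm f g) x
    rw [AlgEquiv.mul_apply, AlgEquiv.mul_apply, hf, hg, hg, hf] at h
    exact h
  have h1 : S ≤ affMaps _ :=
    hperf ▸ (Subgroup.commutator_mono hS hS).trans (comm_semiaffine_le hcomm)
  have h2 : S ≤ translations _ :=
    hperf ▸ (Subgroup.commutator_mono h1 h1).trans comm_affMaps_le
  rw [eq_bot_iff]
  exact hperf ▸ (Subgroup.commutator_mono h2 h2).trans comm_translations.le

end Cfsg.Lib.Blocks.HalfDegree
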