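import Mathlib
import Cfsg.Agent.S0732
import Cfsg.Agent.Blocks.HalfDegree.Semiaffine

/-!
# Recognition of `PSL₂(p)` by its Sylow `p`-normalizer
-/

set_option autoImplicit false
set_option linter.unusedSectionVars false

namespace Cfsg.Lib.Blocks.HalfDegree

open MulAction
open scoped Classical Pointwise

universe u

variable {Q : Type u} [Group Q] [Fintype Q] {p : ℕ} [Fact p.Prime]

/-- Recognition with a perfect subgroup containing the element of order `p`. -/
theorem recognize_psl (y : Q) (hy : orderOf y = p) (hsq : ¬ p ^ 2 ∣ Nat.card Q)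
    (hC : ∀ g, Commute g y → g ∈ Subgroup.zpowers y)
    {m : ℕ} (hm : 2 ≤ m) (hp : 2 * m + 1 = p)
    (hN : Nat.card (Subgroup.normalizer (Subgroup.zpowers y : Set Q)) = p * m)
    (hidx : (Subgroup.normalizer (Subgroup.zpowers y : Set Q)).index = p + 1)
    (L : Subgroup Q) (hyL : y ∈ L) (hperf : ⁅L, L⁆ = L) :
    Nonempty (Q ≃* Matrix.ProjectiveSpecialLinearGroup (Fin 2) (ZMod p)) := by
  have hpr := (Fact.out : p.Prime)
  have hdiv : p ∣ Nat.card Q := hy ▸ orderOf_dvd_natCard y
  have h1 : (Nat.card Q).factorization p = 1 := by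
    refine le_antisymm ?_ (hpr.factorization_pos_of_dvd Nat.card_pos.ne' hdiv)
    by_contra h2
    exact hsq ((hpr.pow_dvd_iff_le_factorization Nat.card_pos.ne').2 (by omega))
  set P : Sylow p Q := Sylow.ofCard (Subgroup.zpowers y) (by rw [Nat.card_zpowers, hy, h1, pow_one])
    with hPdef
  have hP : (P : Subgroup Q) = Subgroup.zpowers y := rfl
  have hPset : (P : Set Q) = (Subgroup.zpowers y : Set Q) := rfl
  let _ : Fintype (Sylow p Q) := Fintype.ofFinite _
  let _ : DecidableEq (Sylow p Q) := Classical.decEq _
  have hcard : Fintype.card (Sylow p Q) = p + 1 := by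
    rw [← Nat.card_eq_fintype_card, P.card_eq_index_normalizer, hPset, hidx]
  set f : Q →* Equiv.Perm (Sylow p Q) := MulAction.toPermHom Q (Sylow p Q) with hf
  have hinj : Function.Injective f := by
    refine (injective_iff_map_eq_one f).2 fun x hx => ?_
    by_contra hx1
    have hK : ∀ z ∈ f.ker, z ∈ Subgroup.normalizer (Subgroup.zpowers y : Set Q) := by
      intro z hz
      have h2 : z • P = P := by
        have := Equiv.Perm.ext_iff.1 (show f z = 1 from hz) P
        simpa [hf] using this
      rw [Sylow.smul_eq_iff_mem_normalizer] at h2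
      rwa [hPset] at h2
    by_cases hpd : p ∣ Nat.card f.ker
    · obtain ⟨z, hz⟩ := exists_prime_orderOf_dvd_card' p hpd
      have hzo : orderOf (z : Q) = p := by rw [Subgroup.orderOf_coe, hz]
      have hzP : IsPGroup p (Subgroup.zpowers (z : Q)) :=
        IsPGroup.of_card (n := 1) (by rw [Nat.card_zpowers, hzo, pow_one])
      have hzy : (z : Q) ∈ Subgroup.zpowers y := by
        rw [← hP]
        exact ((hzP.inf_normalizer_sylow P).le ⟨Subgroup.mem_zpowers _, by
          rw [SetLike.mem_coe]
          show (z : Q) ∈ Subgroup.normalizer (P : Set Q)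
          rw [hPset]; exact hK z z.2⟩).2
      have hyK : y ∈ f.ker := by
        have h2 : Subgroup.zpowers (z : Q) = Subgroup.zpowers y :=
          Subgroup.eq_of_le_of_card_ge (Subgroup.zpowers_le.2 hzy) (by
            rw [Nat.card_zpowers, Nat.card_zpowers, hzo, hy])
        exact Subgroup.zpowers_le.2 z.2 (h2 ▸ Subgroup.mem_zpowers y)
      have htop : Subgroup.normalizer (Subgroup.zpowers y : Set Q) = ⊤ := by
        have hstep : ∀ g : Q, g * y * g⁻¹ ∈ Subgroup.zpowers y := by
          intro g
          have hmem := hK _ ((MonoidHom.normal_ker f).conj_mem y hyK g)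
          have hgP : IsPGroup p (Subgroup.zpowers (g * y * g⁻¹)) :=
            IsPGroup.of_card (n := 1) (by
              rw [Nat.card_zpowers, pow_one,
                show g * y * g⁻¹ = MulAut.conj g y from rfl, MulEquiv.orderOf_eq, hy])
          rw [← hP]
          exact ((hgP.inf_normalizer_sylow P).le ⟨Subgroup.mem_zpowers _, by
            rw [SetLike.mem_coe]
            show g * y * g⁻¹ ∈ Subgroup.normalizer (P : Set Q)
            rw [hPset]; exact hmem⟩).2
        have hnorm : (Subgroup.zpowers y).Normal := ⟨fun w hw g => by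
          obtain ⟨i, rfl⟩ := hw
          simp only [← conj_zpow]
          exact Subgroup.zpow_mem _ (hstep g) i⟩
        exact Subgroup.normalizer_eq_top_iff.2 hnorm
      rw [htop, Subgroup.index_top] at hidx
      omega
    · have hxy : Commute x y := by
        have h2 : x * y * x⁻¹ * y⁻¹ ∈ f.ker := by
          rw [mul_assoc x, mul_assoc x]
          exact mul_mem hx ((MonoidHom.normal_ker f).conj_mem _ (inv_mem hx) y)
        have h3 : x * y * x⁻¹ * y⁻¹ ∈ Subgroup.zpowers y :=
          mul_mem ((Subgroup.mem_normalizer_iff.1 (hK x hx) y).1 (Subgroup.mem_zpowers y))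
            (inv_mem (Subgroup.mem_zpowers y))
        have h4 : x * y * x⁻¹ * y⁻¹ = 1 := by
          by_contra h5
          apply hpd
          have : orderOf (x * y * x⁻¹ * y⁻¹) = p := by
            rcases (Nat.dvd_prime hpr).1 (hy ▸ orderOf_dvd_of_mem_zpowers h3) with e | e
            · exact absurd (orderOf_eq_one_iff.1 e) h5
            · exact e
          exact this ▸ Subgroup.orderOf_dvd_natCard f.ker h2
        rw [mul_inv_eq_one, mul_inv_eq_iff_eq_mul] at h4
        exact h4
      apply hpd
      have : orderOf x = p := by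
        rcases (Nat.dvd_prime hpr).1 (hy ▸ orderOf_dvd_of_mem_zpowers (hC x hxy)) with e | e
        · exact absurd (orderOf_eq_one_iff.1 e) hx1
        · exact e
      exact this ▸ Subgroup.orderOf_dvd_natCard f.ker hx
  have : IsPretransitive f.range (Sylow p Q) := ⟨fun a b => by
    obtain ⟨g, hg⟩ := MulAction.exists_smul_eq Q a b
    exact ⟨⟨f g, g, rfl⟩, hg⟩⟩
  have hG : Nat.card f.range = (p + 1) * p * m := by
    rw [← Nat.card_congr (MonoidHom.ofInjective hinj).toEquiv, mul_assoc, ← hN, ← hidx,
      Subgroup.index_mul_card]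
  rcases Cfsg.Agent.S0732.result hpr hcard f.range hG (by omega) with
    ⟨h, -⟩ | ⟨-, ⟨e⟩⟩ | ⟨q, -, -, -, e, he⟩
  · omega
  · exact ⟨(MonoidHom.ofInjective hinj).trans e⟩
  · exfalso
    let F : Q →* Equiv.Perm (GaloisField 2 q) := (Equiv.permCongrHom e).toMonoidHom.comp f
    have hle : L.map F ≤ Cfsg.semiaffineGroup (GaloisField 2 q) := by
      rintro _ ⟨g, -, rfl⟩
      exact he ⟨f g, g, rfl⟩
    have hbot := eq_bot_of_perfect_semiaffine q (L.map F) hle (by
      rw [← Subgroup.map_commutator, hperf])
    have hy1 : F y = 1 := Subgroup.mem_bot.1 (hbot ▸ Subgroup.mem_map_of_mem F hyL)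
    have hFinj : Function.Injective F := (Equiv.permCongrHom e).injective.comp hinj
    rw [hFinj (hy1.trans (map_one F).symm), orderOf_one] at hy
    exact hpr.ne_one hy.symm

end Cfsg.Lib.Blocks.HalfDegree
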