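import Mathlib
import Cfsg.Agent.Blocks.SmallDegMain
import Cfsg.Agent.Blocks.DegreeSubTwo.Reduction

/-!
# The restriction to the normal closure of a Sylow subgroup
-/

set_option autoImplicit false
set_option linter.unusedSectionVars false

namespace Cfsg.Lib.Blocks.HalfDegree

open Cfsg.Lib.Chars
open scoped ComplexConjugate Classical

universe u

/-- A character with irreducible restriction is irreducible. -/
theorem irr_of_comp {G : Type u} [Group G] [Finite G] {H : Type u} [Group H] [Finite H]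
    (f : H →* G) {χ : G → ℂ} (hχ : Cfsg.IsCharacter G χ)
    (h : Cfsg.IsIrrCharacter H fun x => χ (f x)) : Cfsg.IsIrrCharacter G χ := by
  have := Fintype.ofFinite G
  have := Fintype.ofFinite H
  obtain ⟨m, hm⟩ := IsCharacter.exists_decomp hχ
  set ψ : IrrCharacter H := ⟨_, h⟩ with hψ
  choose c hc using fun η : IrrCharacter G =>
    IsCharacter.exists_mult (IsCharacter.comp_hom (isCharacter_of_irr η.2) f) ψ.2
  have hexp : ∀ η : IrrCharacter G, m η ≠ 0 → deg (η : G → ℂ) = c η * deg (ψ : H → ℂ) := by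
    intro η hη
    obtain ⟨e, he⟩ := IsCharacter.exists_decomp (IsCharacter.comp_hom (isCharacter_of_irr η.2) f)
    have hzero : ∀ ξ : IrrCharacter H, ξ ≠ ψ → e ξ = 0 := by
      intro ξ hξ
      have h1 : Cfsg.classInner (ψ : H → ℂ) (ξ : H → ℂ) = 0 := by
        rw [classInner_irrChar ψ.2 ξ.2, if_neg fun q => hξ (Subtype.ext q.symm)]
      choose d hd using fun η' : IrrCharacter G =>
        IsCharacter.exists_mult (IsCharacter.comp_hom (isCharacter_of_irr η'.2) f) ξ.2
      have h2 : Cfsg.classInner (ψ : H → ℂ) (ξ : H → ℂ) = ∑ η' : IrrCharacter G, (m η' : ℂ) * d η' := by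
        rw [show (ψ : H → ℂ) = ∑ η' : IrrCharacter G, (m η' : ℂ) • fun x => (η' : G → ℂ) (f x) from
          funext fun x => by
            show χ (f x) = _
            rw [hm]
            simp [Finset.sum_apply, nsmul_eq_mul]]
        simp only [classInner_def, Finset.sum_apply, Pi.smul_apply, smul_eq_mul, Finset.sum_mul,
          Finset.mul_sum, ← hd]
        rw [Finset.sum_comm]
        exact Finset.sum_congr rfl fun η' _ => Finset.sum_congr rfl fun x _ => by ring
      rw [h1] at h2
      have h3 : ∑ η' : IrrCharacter G, m η' * d η' = 0 := by exact_mod_cast h2.symm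
      have h4 := Finset.sum_eq_zero_iff.1 h3 η (Finset.mem_univ _)
      have hd0 : d η = 0 := (mul_eq_zero.1 h4).resolve_left hη
      have h5 := hd η
      rw [he, hd0] at h5
      simp only [← Nat.cast_smul_eq_nsmul ℂ, classInner_irrSum] at h5
      exact_mod_cast h5
    have h6 := hc η
    rw [he] at h6
    simp only [← Nat.cast_smul_eq_nsmul ℂ, classInner_irrSum] at h6
    have h7 : e ψ = c η := by exact_mod_cast h6
    have h8 := congrFun he 1
    simp only [map_one, Finset.sum_apply, nsmul_eq_mul, Pi.mul_apply, Pi.natCast_apply,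
      irr_apply_one_eq_deg] at h8
    rw [Finset.sum_eq_single ψ (fun ξ _ hξ => by rw [hzero ξ hξ, Nat.cast_zero, zero_mul]) (by simp),
      h7] at h8
    exact_mod_cast h8
  have hdeg : ∑ η : IrrCharacter G, m η * deg (η : G → ℂ) = deg (ψ : H → ℂ) := by
    apply Nat.cast_injective (R := ℂ)
    rw [← irr_apply_one_eq_deg ψ, show (ψ : H → ℂ) 1 = χ (f 1) from rfl, map_one, hm]
    simp only [Finset.sum_apply, nsmul_eq_mul]
    push_cast
    simp [irr_apply_one_eq_deg]
  have hpos : 0 < deg (ψ : H → ℂ) := deg_irr_pos ψ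
  have hone : ∑ η : IrrCharacter G, m η * c η = 1 := by
    have : (∑ η : IrrCharacter G, m η * c η) * deg (ψ : H → ℂ) = 1 * deg (ψ : H → ℂ) := by
      rw [Finset.sum_mul, one_mul]
      refine Eq.trans ?_ hdeg
      refine Finset.sum_congr rfl fun η _ => ?_
      rcases eq_or_ne (m η) 0 with h0 | h0
      · simp [h0]
      · rw [hexp η h0, mul_assoc]
    exact Nat.eq_of_mul_eq_mul_right hpos this
  obtain ⟨η₀, hη₀⟩ : ∃ η, m η * c η ≠ 0 := by
    by_contra hall
    push Not at hall
    rw [Finset.sum_eq_zero fun η _ => hall η] at hone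
    omega
  rw [← Finset.add_sum_erase _ _ (Finset.mem_univ η₀)] at hone
  have hm1 : m η₀ = 1 := by
    have : m η₀ * c η₀ = 1 := by omega
    exact Nat.eq_one_of_mul_eq_one_right this
  have hrest : ∀ η, η ≠ η₀ → m η = 0 := by
    intro η hη
    by_contra h0
    have h1 := Finset.sum_eq_zero_iff.1
      (show ∑ η ∈ Finset.univ.erase η₀, m η * c η = 0 by omega) η
      (Finset.mem_erase.2 ⟨hη, Finset.mem_univ _⟩)
    have h2 := hexp η h0
    rw [(mul_eq_zero.1 h1).resolve_left h0, zero_mul] at h2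
    exact (deg_irr_pos η).ne' h2
  rw [hm, Finset.sum_eq_single η₀ (fun η _ hη => by rw [hrest η hη, zero_smul]) (by simp), hm1,
    one_smul]
  exact η₀.2

variable {G : Type u} [Group G] [Fintype G] {p : ℕ} [Fact p.Prime]

/-- In degree at most half of `p - 1` the restriction to the subgroup generated by the Sylow
subgroups is irreducible. -/
theorem irr_restrict_normalClosure (hsq : ¬ p ^ 2 ∣ Nat.card G)
    (hnn : ∀ H : Subgroup G, H.Normal → Nat.card H ≠ p) {χ : G → ℂ} (hχ : Cfsg.IsCharacter G χ)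
    (hfaith : ∀ g : G, χ g = χ 1 → g = 1) (hdeg : 2 * deg χ + 1 = p) (y : G)
    (hy : orderOf y = p) :
    Cfsg.IsIrrCharacter (Subgroup.normalClosure ({y} : Set G))
      fun x : Subgroup.normalClosure ({y} : Set G) => χ x := by
  have hp := (Fact.out : p.Prime)
  set L := Subgroup.normalClosure ({y} : Set G) with hL
  have hχL : Cfsg.IsCharacter L fun x : L => χ x := IsCharacter.comp_hom hχ L.subtype
  obtain ⟨m, hm⟩ := IsCharacter.exists_decomp hχL
  have hsum : deg χ = ∑ ψ : IrrCharacter L, m ψ * deg (ψ : L → ℂ) := by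
    apply Nat.cast_injective (R := ℂ)
    rw [← IsCharacter.apply_one_eq_deg hχ, show χ 1 = (fun x : L => χ x) 1 from rfl, hm]
    simp only [Finset.sum_apply, nsmul_eq_mul]
    push_cast
    simp [irr_apply_one_eq_deg]
  -- a constituent of the full degree
  obtain ⟨ψ, hψ0, hψd⟩ : ∃ ψ : IrrCharacter L, m ψ ≠ 0 ∧ deg χ ≤ deg (ψ : L → ℂ) := by
    by_contra hall
    push Not at hall
    have hlin : ∀ ψ : IrrCharacter L, m ψ ≠ 0 → ∀ a b : L,
        (ψ : L → ℂ) (a * b * a⁻¹ * b⁻¹) = (ψ : L → ℂ) 1 := by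
      intro ψ hψ
      set N := kerSubgroup (ψ : L → ℂ) (isCharacter_of_irr ψ.2) with hN
      have : N.Normal := kerSubgroup_normal _
      have : Fintype (L ⧸ N) := Fintype.ofFinite _
      set π := QuotientGroup.mk' N with hπdef
      have hπ : Function.Surjective π := QuotientGroup.mk'_surjective N
      suffices hcomm : ∀ a b : L ⧸ N, a * b = b * a by
        intro a b
        have h1 : a * b * a⁻¹ * b⁻¹ ∈ N := (QuotientGroup.eq_one_iff _).1 (by
          show π (a * b * a⁻¹ * b⁻¹) = 1
          rw [map_mul, map_mul, map_mul, hcomm (π a), map_inv, map_inv, mul_inv_cancel_right,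
            mul_inv_cancel])
        exact (mem_kerSubgroup _ _).1 h1
      obtain ⟨φ, hφc, hφ⟩ := exists_factor π hπ (isCharacter_of_irr ψ.2) fun x hx => by
        rw [hπdef, QuotientGroup.ker_mk'] at hx
        exact (mem_kerSubgroup _ x).1 hx
      have hval : ∀ x, (ψ : L → ℂ) x = φ (π x) := fun x => congrFun hφ x
      have hφf : ∀ q, φ q = φ 1 → q = 1 := by
        intro q hq
        obtain ⟨x, rfl⟩ := hπ q
        rw [← map_one π, ← hval, ← hval] at hq
        exact (QuotientGroup.eq_one_iff x).2 ((mem_kerSubgroup _ x).2 hq)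
      have hdφ : deg φ = deg (ψ : L → ℂ) := by
        unfold deg
        rw [hval 1, map_one]
      have hyL : y ∈ L := Subgroup.subset_normalClosure rfl
      have hgen : ∀ q : L ⧸ N, q ∈ Subgroup.closure {q : L ⧸ N | q ^ p = 1} := by
        intro q
        obtain ⟨⟨x, hx⟩, rfl⟩ := hπ q
        induction hx using Subgroup.closure_induction with
        | mem z hz =>
          refine Subgroup.subset_closure ?_
          obtain ⟨a, ha, hc⟩ := Group.mem_conjugatesOfSet_iff.1 hz
          obtain ⟨g, rfl⟩ := isConj_iff.1 hc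
          rw [Set.mem_singleton_iff] at ha
          subst ha
          show π _ ^ p = 1
          rw [← map_pow]
          refine (congrArg π (Subtype.ext ?_)).trans (map_one π)
          show (g * a * g⁻¹) ^ p = 1
          rw [conj_pow, ← hy, pow_orderOf_eq_one, mul_one, mul_inv_cancel]
        | one => rw [show (⟨1, _⟩ : L) = 1 from rfl, map_one]; exact one_mem _
        | mul a b ha hb ha' hb' =>
          rw [show (⟨a * b, _⟩ : L) = ⟨a, ha⟩ * ⟨b, hb⟩ from rfl, map_mul]
          exact mul_mem ha' hb'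
        | inv a ha ha' =>
          rw [show (⟨a⁻¹, _⟩ : L) = ⟨a, ha⟩⁻¹ from rfl, map_inv]
          exact inv_mem ha'
      have hsqQ : ¬ p ^ 2 ∣ Nat.card (L ⧸ N) := fun h =>
        hsq ((h.trans (Subgroup.card_quotient_dvd_card N)).trans (Subgroup.card_subgroup_dvd_card L))
      by_contra hne
      push Not at hne
      have hφi : Cfsg.IsIrrCharacter (L ⧸ N) φ := IsIrrCharacter.descend hφc π hπ (hφ ▸ ψ.2)
      have := deg_bound_irr hsqQ ((Subgroup.eq_top_iff' _).2 hgen) hne hφi hφf
      have := hall ψ hψ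
      omega
    refine hnn (Subgroup.zpowers y) ?_ (by rw [Nat.card_zpowers, hy])
    have hcomm : ∀ a b : L, a * b = b * a := by
      intro a b
      have h1 : (fun x : L => χ x) (a * b * a⁻¹ * b⁻¹) = (fun x : L => χ x) 1 := by
        rw [hm]
        simp only [Finset.sum_apply, Pi.smul_apply]
        refine Finset.sum_congr rfl fun ψ _ => ?_
        rcases eq_or_ne (m ψ) 0 with h0 | h0
        · simp [h0]
        · rw [hlin ψ h0]
      have h2 : a * b * a⁻¹ * b⁻¹ = 1 := Subtype.ext (hfaith _ h1)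
      calc a * b = a * b * a⁻¹ * b⁻¹ * (b * a) := by group
        _ = b * a := by rw [h2, one_mul]
    obtain ⟨C, hC⟩ := DegreeSubTwo.exists_cyc_zpowers hy hsq
    refine ⟨fun x hx g => ?_⟩
    have hyL : y ∈ L := Subgroup.subset_normalClosure rfl
    have hxL : x ∈ L := (Subgroup.zpowers_le.2 hyL) hx
    have hgxL : g * x * g⁻¹ ∈ L := Subgroup.normalClosure_normal.conj_mem _ hxL g
    have hCyL : C.y ∈ L := (Subgroup.zpowers_le.2 hyL) (hC ▸ Subgroup.mem_zpowers C.y)
    have hxp : x ^ p = 1 := by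
      obtain ⟨i, rfl⟩ := hx
      simp only [← zpow_natCast, ← zpow_mul, mul_comm i]
      rw [zpow_mul, zpow_natCast, ← hy, pow_orderOf_eq_one, one_zpow]
    rw [← hC]
    exact DegreeSubTwo.mem_zpowers_of_commute C (by rw [conj_pow, hxp, mul_one, mul_inv_cancel])
      (congrArg Subtype.val (hcomm ⟨_, hgxL⟩ ⟨_, hCyL⟩))
  have hone : m ψ = 1 ∧ ∀ ξ, ξ ≠ ψ → m ξ = 0 := by
    rw [← Finset.add_sum_erase _ _ (Finset.mem_univ ψ)] at hsum
    have h1 : 1 * deg (ψ : L → ℂ) ≤ m ψ * deg (ψ : L → ℂ) :=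
      Nat.mul_le_mul_right _ (Nat.pos_of_ne_zero hψ0)
    have hz : ∑ ξ ∈ Finset.univ.erase ψ, m ξ * deg (ξ : L → ℂ) = 0 := by omega
    refine ⟨?_, fun ξ hξ => ?_⟩
    · refine Nat.eq_of_mul_eq_mul_right (deg_irr_pos ψ) ?_
      omega
    · exact (mul_eq_zero.1 (Finset.sum_eq_zero_iff.1 hz ξ
        (Finset.mem_erase.2 ⟨hξ, Finset.mem_univ _⟩))).resolve_right (deg_irr_pos ξ).ne'
  rw [hm, Finset.sum_eq_single ψ (fun ξ _ hξ => by rw [hone.2 ξ hξ, zero_smul]) (by simp), hone.1,
    one_smul]
  exact ψ.2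

/-- Elements centralizing a subgroup with irreducible restriction are central. -/
theorem mem_center_of_centralizes {χ : G → ℂ} (hχ : Cfsg.IsCharacter G χ)
    (hfaith : ∀ g : G, χ g = χ 1 → g = 1) (L : Subgroup G)
    (hirr : Cfsg.IsIrrCharacter L fun x : L => χ x) {x : G} (hx : ∀ l ∈ L, l * x = x * l) :
    x ∈ Subgroup.center G := by
  set M := L ⊔ Subgroup.zpowers x with hM
  have hxM : x ∈ M := Subgroup.mem_sup_right (Subgroup.mem_zpowers x)
  have hMi : Cfsg.IsIrrCharacter M fun z : M => χ z :=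
    irr_of_comp (Subgroup.inclusion (le_sup_left : L ≤ M)) (IsCharacter.comp_hom hχ M.subtype) hirr
  have hcent : ∀ z : M, (z : G) * x = x * z := by
    have hle : M ≤ Subgroup.centralizer ({x} : Set G) := sup_le
      (fun l hl => Subgroup.mem_centralizer_singleton_iff.2 (hx l hl))
      (Subgroup.zpowers_le.2 (Subgroup.mem_centralizer_singleton_iff.2 rfl))
    exact fun z => Subgroup.mem_centralizer_singleton_iff.1 (hle z.2)
  obtain ⟨n, ρ, hρ, e⟩ := hMi
  refine DegreeSubTwo.mem_center_of_norm hχ hfaith ?_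
  have : ρ.IsIrreducible := hρ
  obtain ⟨c, hc⟩ := schur_scalar ρ (ρ ⟨x, hxM⟩) fun g v => by
    rw [← Module.End.mul_apply, ← Module.End.mul_apply, ← map_mul, ← map_mul]
    congr 2
    exact Subtype.ext (hcent g).symm
  have h1 : χ x = c * (n : ℂ) := by
    rw [show χ x = (fun z : M => χ z) ⟨x, hxM⟩ from rfl, ← e]
    show LinearMap.trace ℂ _ (ρ ⟨x, hxM⟩) = _
    rw [hc, map_smul, LinearMap.trace_id, Module.finrank_fintype_fun_eq_card, Fintype.card_fin,
      smul_eq_mul]
  have hn : deg χ = n := by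
    apply Nat.cast_injective (R := ℂ)
    rw [← IsCharacter.apply_one_eq_deg hχ, show χ 1 = (fun z : M => χ z) 1 from rfl, ← e,
      ρ.char_one, Module.finrank_fintype_fun_eq_card, Fintype.card_fin]
  have hcn : ‖c‖ = 1 := by
    refine Complex.norm_eq_one_of_pow_eq_one ?_ (orderOf_pos (⟨x, hxM⟩ : M)).ne'
    have h2 : ρ ((⟨x, hxM⟩ : M) ^ orderOf (⟨x, hxM⟩ : M)) = 1 := by
      rw [pow_orderOf_eq_one, map_one]
    rw [map_pow, hc, show (c • LinearMap.id : Module.End ℂ (Fin n → ℂ)) = c • 1 from rfl, smul_pow,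
      one_pow] at h2
    have : Nontrivial (Fin n → ℂ) := nontrivial_of_irreducible ρ
    obtain ⟨w, hw⟩ := exists_ne (0 : Fin n → ℂ)
    exact smul_left_injective ℂ hw (by simpa using LinearMap.congr_fun h2 w)
  rw [h1, norm_mul, hcn, one_mul, Complex.norm_natCast, hn]

end Cfsg.Lib.Blocks.HalfDegree
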