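import Mathlib
import Cfsg.Agent.Blocks.HalfDegree.Restrict
import Cfsg.Agent.Blocks.HalfDegree.Count
import Cfsg.Agent.Blocks.HalfDegree.Recognize
import Cfsg.Agent.Blocks.DegreeSubTwo.Analysis
import Cfsg.Agent.Blocks.TwoMember.BlockAlgebra

/-!
# Faithful characters of degree `(p - 1) / 2`
-/

set_option autoImplicit false
set_option linter.unusedSectionVars false

namespace Cfsg.Lib.Blocks.HalfDegree

open Cfsg.Lib.Chars Module
open scoped ComplexConjugate _root_.Classical commutatorElement

universe u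

variable {G : Type u} [Group G] [Fintype G] {p : ℕ} [Fact p.Prime]

/-- With a central complement the action of the complement has order `(p - 1) / 2`. -/
theorem card_act_range (C : Cyc G p) {M : Ideal AlgInt} (hM : IsPModular p M) {χ : IrrCharacter G}
    {m : ℕ} (hm : 2 ≤ m) (hp : 2 * m + 1 = p) (hdeg : deg (χ : G → ℂ) = m)
    (hV : ∀ v : C.V, ((v : C.H) : G) ∈ Subgroup.center G) :
    Nat.card C.act.range = m := by
  have hpr := (Fact.out : p.Prime)
  obtain ⟨θ, hoth, -, hcase⟩ := C.small_shape hM χ (by omega)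
  have hcomm : ∀ a b : C.V, a * b = b * a := fun a b => Subtype.ext (Subtype.ext
    (Subgroup.mem_center_iff.1 (hV b) _))
  have hfix : ∀ (h : C.H) (η : IrrCharacter C.V), C.conjI h η = η := fun h η => by
    refine Subtype.ext (funext fun v => ?_)
    show conjN C.V h (η : C.V → ℂ) v = _
    rw [conjN_eq_comp]
    show (η : C.V → ℂ) _ = _
    refine congrArg _ ?_
    refine Subtype.ext (Subtype.ext ?_)
    rw [MulAut.conjNormal_apply]
    show (h : G) * ((v : C.H) : G) * (h : G)⁻¹ = _
    rw [Subgroup.mem_center_iff.1 (hV v) (h : G), mul_inv_cancel_right]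
  have hθ1 : deg (θ : C.V → ℂ) = 1 := by
    apply Nat.cast_injective (R := ℂ)
    rw [← irr_apply_one_eq_deg, irr_deg_one_of_comm hcomm θ.2, Nat.cast_one]
  have hsum : m = ∑ k, C.aN χ θ k := by
    rw [← hdeg, C.deg_eq_sum χ, Finset.sum_eq_single θ (fun η _ hη => ?_) (by simp), hθ1, one_mul]
    rw [Finset.sum_eq_zero fun k _ => by
      by_contra h0
      obtain ⟨h, e⟩ := hoth η k h0
      exact hη (by rw [← e, hfix]), mul_zero]
  have hE : C.E (θ : C.V → ℂ) = C.act.range := by
    ext x
    refine ⟨fun ⟨h, _, e⟩ => ⟨h, e⟩, fun ⟨h, e⟩ => ⟨h, C.mem_stab.2 ?_, e⟩⟩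
    exact congrArg Subtype.val (hfix h θ)
  rw [Cyc.sum_units_eq] at hsum
  rcases hcase with ⟨h0, w, hw⟩ | ⟨h0, hv⟩ | ⟨h0, he, w, hw⟩
  · rw [h0, Finset.sum_congr rfl fun v _ => hw v, Finset.sum_ite, Finset.sum_const_zero, add_zero,
      Finset.sum_const, smul_eq_mul, mul_one, zero_add, Cyc.card_coset (C.E (θ : C.V → ℂ)) w, hE] at hsum
    exact hsum.symm
  · rw [h0, Finset.sum_eq_zero fun v _ => hv v] at hsum
    omega
  · exfalso
    rw [h0, Finset.sum_congr rfl fun v _ => hw v, Finset.sum_ite, Finset.sum_const_zero,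
      zero_add, Finset.sum_const, smul_eq_mul, mul_one, Finset.filter_not, Finset.card_univ_sdiff,
      ZMod.card_units, Cyc.card_coset (C.E (θ : C.V → ℂ)) w] at hsum
    have : Nat.card (C.E (θ : C.V → ℂ)) = C.ee (θ : C.V → ℂ) := rfl
    omega

/-- The order of the normalizer. -/
theorem card_normalizer_eq (C : Cyc G p) :
    Nat.card (Subgroup.normalizer (Subgroup.zpowers C.y : Set G)) = p * Nat.card C.H := by
  set N := Subgroup.normalizer (Subgroup.zpowers C.y : Set G)
  let f : ZMod p × C.H → N := fun x =>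
    ⟨C.yP x.1 * (x.2 : G), mul_mem (C.yP_mem_norm x.1) (C.le_norm x.2.2)⟩
  have hf : Function.Bijective f := by
    constructor
    · rintro ⟨i, a⟩ ⟨j, b⟩ e
      have e1 : C.yP i * (a : G) = C.yP j * (b : G) := congrArg Subtype.val e
      have e2 : C.yP (i - j) = ((b * a⁻¹ : C.H) : G) := by
        rw [sub_eq_add_neg, add_comm, C.yP_add, C.yP_neg, Subgroup.coe_mul, Subgroup.coe_inv,
          eq_mul_inv_iff_mul_eq, mul_assoc, e1, inv_mul_cancel_left]
      have e3 : C.yP (i - j) = 1 := by
        have h1 := congrArg (· ^ Nat.card C.H) e2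
        simp only [C.yP_pow, ← SubmonoidClass.coe_pow, pow_card_eq_one', OneMemClass.coe_one] at h1
        have h2 := C.yP_injective (h1.trans C.yP_zero.symm)
        rw [(mul_eq_zero.1 h2).resolve_left C.card_cast_ne_zero, C.yP_zero]
      have hij : i = j := sub_eq_zero.1 (C.yP_injective (e3.trans C.yP_zero.symm))
      subst hij
      exact Prod.ext rfl (Subtype.ext (mul_left_cancel e1))
    · rintro ⟨g, hg⟩
      obtain ⟨i, h, hh, rfl⟩ := C.decomp g hg
      exact ⟨((i : ZMod p), ⟨h, hh⟩), Subtype.ext (by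
        show C.yP (i : ZMod p) * h = _
        rw [C.yP_natCast])⟩
  rw [← Nat.card_congr (Equiv.ofBijective f hf), Nat.card_prod, Nat.card_zmod]

/-- A normal subgroup avoiding the element of order `p` centralizes it. -/
theorem commute_of_normal_not_mem {χ : G → ℂ} (hχ : Cfsg.IsCharacter G χ)
    (hfaith : ∀ g : G, χ g = χ 1 → g = 1) (hsq : ¬ p ^ 2 ∣ Nat.card G) (hd : deg χ + 2 ≤ p)
    (K : Subgroup G) [K.Normal] {y : G} (hy : orderOf y = p) (hyK : y ∉ K) :
    ∀ x ∈ K, Commute x y := by
  have hpr := (Fact.out : p.Prime)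
  set M := K ⊔ Subgroup.zpowers y with hM
  have hyM : y ∈ M := Subgroup.mem_sup_right (Subgroup.mem_zpowers y)
  let _ : Fintype M := Fintype.ofFinite M
  have hsqM : ¬ p ^ 2 ∣ Nat.card M := fun h => hsq (h.trans (Subgroup.card_subgroup_dvd_card M))
  obtain ⟨C, hC⟩ := DegreeSubTwo.exists_cyc_zpowers (y := (⟨y, hyM⟩ : M))
    (by rw [← Subgroup.orderOf_coe, hy]) hsqM
  have hCy : (C.y : G) ∈ Subgroup.zpowers y := by
    obtain ⟨i, hi⟩ : C.y ∈ Subgroup.zpowers (⟨y, hyM⟩ : M) := hC ▸ Subgroup.mem_zpowers C.y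
    exact ⟨i, by rw [← hi]; simp⟩
  have hCo : orderOf (C.y : G) = p := by rw [Subgroup.orderOf_coe, C.order]
  have hgen : Subgroup.zpowers (C.y : G) = Subgroup.zpowers y :=
    Subgroup.eq_of_le_of_card_ge (Subgroup.zpowers_le.2 hCy)
      (by rw [Nat.card_zpowers, Nat.card_zpowers, hy, hCo])
  have hmeet : ∀ z ∈ Subgroup.zpowers y, z ∈ K → z = 1 := by
    intro z hz hzK
    by_contra hz1
    apply hyK
    have hzo : orderOf z = p := by
      rcases (Nat.dvd_prime hpr).1 (hy ▸ orderOf_dvd_of_mem_zpowers hz) with e | e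
      · exact absurd (orderOf_eq_one_iff.1 e) hz1
      · exact e
    have : Subgroup.zpowers z = Subgroup.zpowers y :=
      Subgroup.eq_of_le_of_card_ge (Subgroup.zpowers_le.2 hz)
        (by rw [Nat.card_zpowers, Nat.card_zpowers, hy, hzo])
    exact (Subgroup.zpowers_le.2 hzK) (this ▸ Subgroup.mem_zpowers y)
  have hcomm : ∀ a ∈ M, a * (C.y : G) * a⁻¹ * (C.y : G)⁻¹ ∈ K := by
    intro a ha
    rw [← QuotientGroup.eq_one_iff]
    have hq : ∀ b ∈ M, (QuotientGroup.mk' K b) ∈ Subgroup.zpowers (QuotientGroup.mk' K y) := by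
      intro b hb
      have : (M.map (QuotientGroup.mk' K)) ≤ Subgroup.zpowers (QuotientGroup.mk' K y) := by
        rw [hM, Subgroup.map_sup, MonoidHom.map_zpowers,
          show K.map (QuotientGroup.mk' K) = ⊥ from (Subgroup.map_eq_bot_iff _).2 (QuotientGroup.ker_mk' K).ge,
          bot_sup_eq]
      exact this ⟨b, hb, rfl⟩
    obtain ⟨i, hi⟩ := hq a ha
    obtain ⟨j, hj⟩ := hq _ C.y.2
    show QuotientGroup.mk' K (a * (C.y : G) * a⁻¹ * (C.y : G)⁻¹) = 1
    rw [map_mul, map_mul, map_mul, map_inv, map_inv, ← hi, ← hj,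
      (Commute.zpow_zpow_self _ i j).eq, mul_inv_cancel_right, mul_inv_cancel]
  have hact : ∀ h : C.H, C.act h = 1 := by
    intro h
    have h1 := hcomm ((h : M) : G) (h : M).2
    have h2 := congrArg Subtype.val (C.conj_y h)
    simp only [Subgroup.coe_mul, Subgroup.coe_inv, SubmonoidClass.coe_pow] at h2
    rw [h2] at h1
    have h3 := hmeet _ (mul_mem (Subgroup.pow_mem _ hCy _) (inv_mem hCy)) h1
    rw [mul_inv_eq_one] at h3
    apply Units.ext
    apply C.yP_injective
    rw [Units.val_one, C.yP_one]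
    exact Subtype.ext h3
  have hcen := DegreeSubTwo.y_mem_center_of_act_trivial C (χ := fun z : M => χ z)
    (IsCharacter.comp_hom hχ M.subtype) (fun z hz => Subtype.ext (hfaith _ hz))
    (by unfold deg at hd ⊢; simpa using hd) hact
  intro x hx
  have h4 := congrArg Subtype.val (Subgroup.mem_center_iff.1 hcen ⟨x, Subgroup.mem_sup_left hx⟩)
  have h5 : Commute x (C.y : G) := h4
  obtain ⟨i, hi⟩ := show y ∈ Subgroup.zpowers (C.y : G) from hgen ▸ Subgroup.mem_zpowers y
  rw [← hi]
  exact h5.zpow_right i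

/-- The normal closure of the element of order `p` is perfect. -/
theorem normalClosure_perfect {χ : G → ℂ} (hχ : Cfsg.IsCharacter G χ)
    (hfaith : ∀ g : G, χ g = χ 1 → g = 1) (hsq : ¬ p ^ 2 ∣ Nat.card G) (hd : deg χ + 2 ≤ p)
    (hnn : ∀ H : Subgroup G, H.Normal → Nat.card H ≠ p) {y : G} (hy : orderOf y = p) :
    ⁅Subgroup.normalClosure ({y} : Set G), Subgroup.normalClosure ({y} : Set G)⁆ =
      Subgroup.normalClosure ({y} : Set G) := by
  have hpr := (Fact.out : p.Prime)
  set L := Subgroup.normalClosure ({y} : Set G) with hL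
  have hLn : L.Normal := Subgroup.normalClosure_normal
  have hyL : y ∈ L := Subgroup.subset_normalClosure rfl
  let _ : Fintype L := Fintype.ofFinite L
  have hsqL : ¬ p ^ 2 ∣ Nat.card L := fun h => hsq (h.trans (Subgroup.card_subgroup_dvd_card L))
  obtain ⟨C, hC⟩ := DegreeSubTwo.exists_cyc_zpowers (y := (⟨y, hyL⟩ : L))
    (by rw [← Subgroup.orderOf_coe, hy]) hsqL
  have hCy : (C.y : G) ∈ Subgroup.zpowers y := by
    obtain ⟨i, hi⟩ : C.y ∈ Subgroup.zpowers (⟨y, hyL⟩ : L) := hC ▸ Subgroup.mem_zpowers C.y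
    exact ⟨i, by rw [← hi]; simp⟩
  have hCo : orderOf (C.y : G) = p := by rw [Subgroup.orderOf_coe, C.order]
  have hgen : Subgroup.zpowers (C.y : G) = Subgroup.zpowers y :=
    Subgroup.eq_of_le_of_card_ge (Subgroup.zpowers_le.2 hCy)
      (by rw [Nat.card_zpowers, Nat.card_zpowers, hy, hCo])
  obtain ⟨h, hh⟩ : ∃ h : C.H, C.act h ≠ 1 := by
    by_contra hall
    push Not at hall
    have hcen := DegreeSubTwo.y_mem_center_of_act_trivial C (χ := fun z : L => χ z)
      (IsCharacter.comp_hom hχ L.subtype) (fun z hz => Subtype.ext (hfaith _ hz))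
      (by unfold deg at hd ⊢; simpa using hd) hall
    refine hnn (Subgroup.zpowers y) ⟨fun x hx g => ?_⟩ (by rw [Nat.card_zpowers, hy])
    have hxL : x ∈ L := (Subgroup.zpowers_le.2 hyL) hx
    have hgx : g * x * g⁻¹ ∈ L := hLn.conj_mem _ hxL g
    have hxp : x ^ p = 1 := by
      obtain ⟨i, rfl⟩ := hx
      simp only [← zpow_natCast, ← zpow_mul, mul_comm i]
      rw [zpow_mul, zpow_natCast, ← hy, pow_orderOf_eq_one, one_zpow]
    have h1 : (⟨g * x * g⁻¹, hgx⟩ : L) ∈ Subgroup.zpowers C.y :=
      DegreeSubTwo.mem_zpowers_of_commute C (Subtype.ext (by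
        rw [SubmonoidClass.coe_pow, OneMemClass.coe_one, conj_pow, hxp, mul_one, mul_inv_cancel]))
        (Subgroup.mem_center_iff.1 hcen _)
    rw [← hgen]
    obtain ⟨i, hi⟩ := h1
    exact ⟨i, by simpa using congrArg Subtype.val hi⟩
  have hcy : (C.y : G) ∈ L := C.y.2
  have h2 := congrArg Subtype.val (C.conj_y h)
  simp only [Subgroup.coe_mul, Subgroup.coe_inv, SubmonoidClass.coe_pow] at h2
  have hmem : (C.y : G) ^ (C.act h : ZMod p).val * (C.y : G)⁻¹ ∈ ⁅L, L⁆ := by
    rw [← h2]
    exact Subgroup.commutator_mem_commutator (h : L).2 hcy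
  have hne : (C.y : G) ^ (C.act h : ZMod p).val * (C.y : G)⁻¹ ≠ 1 := by
    intro e
    rw [mul_inv_eq_one] at e
    refine hh (Units.ext (C.yP_injective ?_))
    rw [Units.val_one, C.yP_one]
    exact Subtype.ext e
  refine le_antisymm (Subgroup.commutator_le_left _ _) ?_
  have hsub : ({y} : Set G) ⊆ ((⁅L, L⁆ : Subgroup G) : Set G) := by
    rw [Set.singleton_subset_iff]
    set z := (C.y : G) ^ (C.act h : ZMod p).val * (C.y : G)⁻¹
    have hz : z ∈ Subgroup.zpowers y := mul_mem (Subgroup.pow_mem _ hCy _) (inv_mem hCy)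
    have hzo : orderOf z = p := by
      rcases (Nat.dvd_prime hpr).1 (hy ▸ orderOf_dvd_of_mem_zpowers hz) with e | e
      · exact absurd (orderOf_eq_one_iff.1 e) hne
      · exact e
    have : Subgroup.zpowers z = Subgroup.zpowers y :=
      Subgroup.eq_of_le_of_card_ge (Subgroup.zpowers_le.2 hz)
        (by rw [Nat.card_zpowers, Nat.card_zpowers, hy, hzo])
    exact (Subgroup.zpowers_le.2 hmem) (this ▸ Subgroup.mem_zpowers y)
  have : (⁅L, L⁆).Normal := inferInstance
  exact Subgroup.normalClosure_le_normal hsub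

/-- The conclusion from a three dimensional representation. -/
theorem iso_psl_of_threeRep {k : Type*} [Field k] [CharP k p] [IsAlgClosed k] {W : Type*}
    {iA : AddCommGroup W} {iM : Module k W} (hsq : ¬ p ^ 2 ∣ Nat.card G)
    (hnn : ∀ H : Subgroup G, H.Normal → Nat.card H ≠ p) {χ : G → ℂ} (hχ : Cfsg.IsCharacter G χ)
    (hfaith : ∀ g : G, χ g = χ 1 → g = 1) {m : ℕ} (hdeg : deg χ = m) (hp : 2 * m + 1 = p)
    (hm : 2 ≤ m) (C : Cyc G p) {M : Ideal AlgInt} (hM : IsPModular p M)
    (T₀ : ThreeRep k W C.y) :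
    Nonempty ((G ⧸ Subgroup.center G) ≃* Matrix.ProjectiveSpecialLinearGroup (Fin 2) (ZMod p)) := by
  have hpr := (Fact.out : p.Prime)
  have : FiniteDimensional k W := FiniteDimensional.of_finrank_eq_succ T₀.finrank_eq
  set y := C.y with hy
  set L := Subgroup.normalClosure ({y} : Set G) with hL
  let _ : Fintype L := Fintype.ofFinite L
  have hyL : y ∈ L := Subgroup.subset_normalClosure rfl
  have hirr : Cfsg.IsIrrCharacter L fun x : L => χ x :=
    irr_restrict_normalClosure hsq hnn hχ hfaith (by omega) y C.order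
  have hχi : Cfsg.IsIrrCharacter G χ := irr_of_comp L.subtype hχ hirr
  set T := T₀.normalize with hT
  set K : Subgroup G := T.rep.ker with hK
  have hyK : y ∉ K := fun h => by
    have h1 := T.y_g
    rw [show T.rep C.y = 1 from h, Module.End.one_apply, left_eq_add] at h1
    exact T.e_ne h1
  -- the kernel is central
  have hKy := commute_of_normal_not_mem hχ hfaith hsq (by omega) K C.order hyK
  have hKc : K ≤ Subgroup.center G := by
    intro x hx
    refine mem_center_of_centralizes hχ hfaith L hirr fun l hl => ?_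
    have hle : L ≤ Subgroup.centralizer (K : Set G) := by
      have : (Subgroup.centralizer (K : Set G)).Normal := Subgroup.normal_centralizer
      refine Subgroup.normalClosure_le_normal (Set.singleton_subset_iff.2 ?_)
      rw [SetLike.mem_coe, Subgroup.mem_centralizer_iff]
      exact fun z hz => (hKy z hz).eq
    exact (Subgroup.mem_centralizer_iff.1 (hle hl) x hx).symm
  have hKp : ¬ p ∣ Nat.card K := by
    intro h
    obtain ⟨z, hz⟩ := exists_prime_orderOf_dvd_card' p h
    refine hnn (Subgroup.zpowers (z : G)) ⟨fun w hw g => ?_⟩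
      (by rw [Nat.card_zpowers, Subgroup.orderOf_coe, hz])
    rwa [Subgroup.mem_center_iff.1 (hKc ((Subgroup.zpowers_le.2 z.2) hw)) g, mul_inv_cancel_right]
  -- the quotient
  let Q := G ⧸ K
  let _ : Fintype Q := Fintype.ofFinite _
  set π := QuotientGroup.mk' K with hπdef
  have hπs : Function.Surjective π := QuotientGroup.mk'_surjective K
  set ψ : Q →* Module.End k W := QuotientGroup.lift K T.rep le_rfl with hψ
  have hψπ : ∀ g, ψ (π g) = T.rep g := fun g => rfl
  let TQ : ThreeRep k W (π y) :=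
    { rep := ψ
      form := T.form
      symm := T.symm
      inv := fun q a b => by
        obtain ⟨g, rfl⟩ := hπs q
        rw [hψπ]; exact T.inv g a b
      e := T.e
      g₀ := T.g₀
      f := T.f
      y_e := by rw [hψπ]; exact T.y_e
      y_g := by rw [hψπ]; exact T.y_g
      y_f := by rw [hψπ]; exact T.y_f
      form_ee := T.form_ee
      form_eg := T.form_eg
      form_ef := T.form_ef
      finrank_eq := T.finrank_eq }
  have hord : orderOf (π y) = p := orderOf_eq_prime
    (by rw [← map_pow, ← C.order, pow_orderOf_eq_one, map_one])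
    fun h => hyK ((QuotientGroup.eq_one_iff y).1 h)
  have hgood : ThreeRep.Good (p := p) TQ :=
    { inj := by
        refine (injective_iff_map_eq_one _).2 fun q hq => ?_
        obtain ⟨g, rfl⟩ := hπs q
        exact (QuotientGroup.eq_one_iff g).2 hq
      special := fun q => by
        obtain ⟨g, rfl⟩ := hπs q
        exact T₀.normalize_det g
      two := by
        have : ((2 : ℕ) : k) ≠ 0 := fun h => by
          rw [CharP.cast_eq_zero_iff k p] at h
          have := Nat.le_of_dvd two_pos h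
          omega
        exact_mod_cast this
      order := hord
      sq := fun h => hsq (h.trans (Subgroup.card_quotient_dvd_card K)) }
  -- the complement of the centralizer is the kernel
  have hVK : ∀ v : C.V, ((v : C.H) : G) ∈ K := by
    intro v
    refine (QuotientGroup.eq_one_iff _).1 ?_
    refine TQ.eq_one_of_commute hgood.inj hgood.special hgood.two (fun h => ?_) ?_
    · have h1 := h.trans ((orderOf_map_dvd π ((v : C.H) : G)).trans
        ((dvd_of_eq (Subgroup.orderOf_coe (v : C.H))).trans (orderOf_dvd_natCard _)))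
      exact C.not_dvd h1
    · have := (C.commute_V v 1).map π
      rwa [C.yP_one] at this
  have hVc : ∀ v : C.V, ((v : C.H) : G) ∈ Subgroup.center G := fun v => hKc (hVK v)
  have hrange := card_act_range C hM (χ := ⟨χ, hχi⟩) hm hp hdeg hVc
  have hVcard : Nat.card C.V = Nat.card K := by
    let f : C.V → K := fun v => ⟨((v : C.H) : G), hVK v⟩
    refine Nat.card_congr (Equiv.ofBijective f ⟨fun a b e => ?_, fun x => ?_⟩)
    · have e' : ((f a : K) : G) = (f b : K) := congrArg Subtype.val e
      exact Subtype.ext (Subtype.ext e')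
    obtain ⟨i, v, e⟩ := C.exists_el (g := (x : G))
      (Subgroup.mem_centralizer_singleton_iff.2 (hKy x x.2).eq)
    have hi : C.yP i ∈ K := by
      have : C.yP i = (x : G) * (((v : C.H) : G))⁻¹ := by rw [← e, Cyc.el, mul_inv_cancel_right]
      rw [this]
      exact mul_mem x.2 (inv_mem (hVK v))
    have hi0 : i = 0 := by
      by_contra h0
      refine hKp ?_
      have : orderOf (C.yP i) = p := orderOf_eq_prime
        (by rw [C.yP_pow, ZMod.natCast_self, zero_mul, C.yP_zero])
        fun q => h0 (C.yP_injective (q.trans C.yP_zero.symm))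
      exact this ▸ Subgroup.orderOf_dvd_natCard K hi
    exact ⟨v, Subtype.ext (by rw [hi0, C.el_zero] at e; exact e)⟩
  have hHcard : Nat.card C.H = Nat.card K * m := by
    rw [← hVcard, ← C.V.card_mul_index, Subgroup.index_ker, hrange]
  -- the normalizer in the quotient
  set NG := Subgroup.normalizer (Subgroup.zpowers y : Set G) with hNG
  set NQ := Subgroup.normalizer (Subgroup.zpowers (π y) : Set Q) with hNQ
  have hmap : NQ = NG.map π := by
    refine le_antisymm (fun q hq => ?_) ?_
    · obtain ⟨g, rfl⟩ := hπs q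
      refine ⟨g, ?_, rfl⟩
      obtain ⟨j, hj⟩ := (Subgroup.mem_normalizer_iff.1 hq (π y)).1 (Subgroup.mem_zpowers _)
      set z := (y ^ j)⁻¹ * (g * y * g⁻¹) with hz
      have hzK : z ∈ K := (QuotientGroup.eq_one_iff _).1 (by
        show π z = 1
        rw [hz, map_mul, map_inv, map_zpow, map_mul, map_mul, map_inv,
          show (π y) ^ j = π g * π y * (π g)⁻¹ from hj, inv_mul_cancel])
      have hzp : z ^ p = 1 := by
        have hy1 : y ^ p = 1 := by rw [← C.order]; exact pow_orderOf_eq_one y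
        have hc : Commute (y ^ j) z :=
          ((Subgroup.mem_center_iff.1 (hKc hzK)) (y ^ j))
        have h1 : (y ^ j * z) ^ p = 1 := by
          rw [hz, mul_inv_cancel_left, conj_pow, hy1, mul_one, mul_inv_cancel]
        rw [hc.mul_pow] at h1
        rwa [← zpow_natCast (y ^ j), ← zpow_mul, mul_comm, zpow_mul, zpow_natCast, hy1, one_zpow,
          one_mul] at h1
      have hz1 : z = 1 := by
        by_contra h1
        exact hKp (orderOf_eq_prime hzp h1 ▸ Subgroup.orderOf_dvd_natCard K hzK)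
      have hgy : g * y * g⁻¹ ∈ Subgroup.zpowers y := by
        rw [hz, inv_mul_eq_one] at hz1
        exact ⟨j, hz1⟩
      refine Subgroup.mem_normalizer_iff_map_conj_eq.2 ?_
      rw [MonoidHom.map_zpowers]
      refine Subgroup.eq_of_le_of_card_ge (Subgroup.zpowers_le.2 hgy) ?_
      rw [Nat.card_zpowers, Nat.card_zpowers]
      exact (MulEquiv.orderOf_eq (MulAut.conj g) y).ge
    · rintro _ ⟨g, hg, rfl⟩
      refine Subgroup.mem_normalizer_iff_map_conj_eq.2 ?_
      have h1 : (Subgroup.zpowers y).map (MulAut.conj g).toMonoidHom = Subgroup.zpowers y :=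
        Subgroup.mem_normalizer_iff_map_conj_eq.1 hg
      rw [← MonoidHom.map_zpowers π y]
      conv_rhs => rw [← h1]
      rw [Subgroup.map_map, Subgroup.map_map]
      congr 1
  have hKN : K ≤ NG := fun x hx => Subgroup.mem_normalizer_iff.2 fun w => by
    rw [← Subgroup.mem_center_iff.1 (hKc hx) w, mul_inv_cancel_right]
  have hNcard : Nat.card NQ = p * m := by
    have h1 : Nat.card NG = Nat.card NQ * Nat.card K := by
      rw [Subgroup.card_eq_card_quotient_mul_card_subgroup (π.comp NG.subtype).ker,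
        Nat.card_congr (QuotientGroup.quotientKerEquivRange (π.comp NG.subtype)).toEquiv,
        MonoidHom.range_comp, Subgroup.range_subtype, ← hmap]
      congr 1
      rw [show (π.comp NG.subtype).ker = K.subgroupOf NG by
        ext x
        rw [MonoidHom.mem_ker, Subgroup.mem_subgroupOf, MonoidHom.comp_apply, hπdef,
          QuotientGroup.mk'_apply, QuotientGroup.eq_one_iff]
        rfl]
      exact Nat.card_congr (Subgroup.subgroupOfEquivOfLe hKN).toEquiv
    rw [hNG, card_normalizer_eq C, hHcard, mul_comm (Nat.card K), ← mul_assoc] at h1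
    exact (Nat.eq_of_mul_eq_mul_right Nat.card_pos h1).symm
  have hnnQ : NQ ≠ ⊤ := by
    intro htop
    refine hnn (Subgroup.zpowers y) ?_ (by rw [Nat.card_zpowers, C.order])
    refine Subgroup.normalizer_eq_top_iff.1 (eq_top_iff.2 fun g _ => ?_)
    obtain ⟨n', hn', e⟩ : π g ∈ NG.map π := hmap ▸ htop ▸ Subgroup.mem_top (π g)
    have h1 : n'⁻¹ * g ∈ K := QuotientGroup.eq.1 e
    rw [show g = n' * (n'⁻¹ * g) by group]
    exact mul_mem hn' (hKN h1)
  have hidx := hgood.index_normalizer hm hp hNcard hnnQ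
  -- recognition
  obtain ⟨e⟩ := recognize_psl (π y) hord hgood.sq (fun g hg => hgood.mem_zpowers_of_commute hg)
    hm hp hNcard hidx (L.map π) (Subgroup.mem_map_of_mem π hyL)
    (by rw [← Subgroup.map_commutator,
      normalClosure_perfect hχ hfaith hsq (by omega) hnn C.order])
  have hcenter : Subgroup.center G = K := by
    refine le_antisymm (fun x hx => ?_) hKc
    have hxc : π x ∈ Subgroup.zpowers (π y) := hgood.mem_zpowers_of_commute
      ((show Commute x y from (Subgroup.mem_center_iff.1 hx y).symm).map π)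
    obtain ⟨i, hi⟩ := hxc
    have h1 : (y ^ i)⁻¹ * x ∈ K := QuotientGroup.eq.1 (show π (y ^ i) = π x by rw [map_zpow]; exact hi)
    have h2 : y ^ i ∈ Subgroup.center G := by
      rw [show y ^ i = x * ((y ^ i)⁻¹ * x)⁻¹ by group]
      exact mul_mem hx (inv_mem (hKc h1))
    have h3 : y ^ i = 1 := by
      by_contra h4
      refine hnn (Subgroup.zpowers y) ⟨fun w hw g => ?_⟩ (by rw [Nat.card_zpowers, C.order])
      have hzo : orderOf (y ^ i) = p := by
        have hmem : y ^ i ∈ Subgroup.zpowers y := ⟨i, rfl⟩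
        rcases (Nat.dvd_prime hpr).1 (C.order ▸ orderOf_dvd_of_mem_zpowers hmem) with q | q
        · exact absurd (orderOf_eq_one_iff.1 q) h4
        · exact q
      have hgen' : Subgroup.zpowers (y ^ i) = Subgroup.zpowers y :=
        Subgroup.eq_of_le_of_card_ge (Subgroup.zpowers_le.2 ⟨i, rfl⟩)
          (by rw [Nat.card_zpowers, Nat.card_zpowers, C.order, hzo])
      have hwc : w ∈ Subgroup.center G := (Subgroup.zpowers_le.2 h2) (hgen'.symm ▸ hw)
      rwa [Subgroup.mem_center_iff.1 hwc g, mul_inv_cancel_right]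
    rwa [h3, inv_one, one_mul] at h1
  exact ⟨(QuotientGroup.quotientMulEquivOfEq hcenter).trans e⟩

set_option maxHeartbeats 2000000 in
/-- A faithful character of degree `(p - 1) / 2` gives `PSL₂(p)`. -/
theorem iso_psl_of_half_degree (hdiv : p ∣ Nat.card G) (hsq : ¬ p ^ 2 ∣ Nat.card G)
    (hnn : ∀ H : Subgroup G, H.Normal → Nat.card H ≠ p) {χ : G → ℂ} (hχ : Cfsg.IsCharacter G χ)
    (hfaith : ∀ g : G, χ g = χ 1 → g = 1) {m : ℕ} (hdeg : deg χ = m) (hp : 2 * m + 1 = p)
    (hm : 2 ≤ m) :
    Nonempty ((G ⧸ Subgroup.center G) ≃* Matrix.ProjectiveSpecialLinearGroup (Fin 2) (ZMod p)) := by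
  have hpr := (Fact.out : p.Prime)
  obtain ⟨P⟩ : Nonempty (Sylow p G) := inferInstance
  obtain ⟨C, hP⟩ := exists_cyc hdiv hsq P
  -- the reduction
  obtain ⟨M, hM⟩ := exists_isPModular hpr
  have : CharP (Res M) p := charP_res hM
  have : IsAlgClosed (Res M) := TwoMember.isAlgClosed_res M
  have hnop : ∀ N : Subgroup G, N.Normal → IsPGroup p N → N = ⊥ := by
    intro N hN hNp
    by_contra h
    obtain ⟨j, hj⟩ := IsPGroup.iff_card.1 hNp
    have hj0 : j ≠ 0 := fun e => h (Subgroup.eq_bot_of_card_eq N (by rw [hj, e, pow_zero]))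
    have hj2 : j < 2 := by
      by_contra h2
      exact hsq ((pow_dvd_pow p (not_lt.1 h2)).trans (hj ▸ Subgroup.card_subgroup_dvd_card N))
    exact hnn N hN (by rw [hj, show j = 1 by omega, pow_one])
  obtain ⟨n, ρ, hρ⟩ := id hχ
  have hn : n = m := by
    rw [← hdeg, ← hρ, deg_character, Module.finrank_fintype_fun_eq_card, Fintype.card_fin]
  have hρinj : Function.Injective ρ := by
    refine (injective_iff_map_eq_one _).2 fun g hg => hfaith g ?_
    rw [← hρ]
    show LinearMap.trace ℂ _ (ρ g) = LinearMap.trace ℂ _ (ρ 1)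
    rw [hg, map_one ρ]
  obtain ⟨U, σ, hU, hσ⟩ := exists_faithful_reduction hM ρ hρinj hnop
  obtain ⟨W, ⟨T₀⟩⟩ := exists_threeRep C σ P hP hσ (by rw [hU]; omega)
  exact iso_psl_of_threeRep hsq hnn hχ hfaith hdeg hp hm C hM T₀

end Cfsg.Lib.Blocks.HalfDegree
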